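import Cfsg.Agent.Lib.Leech.Stab.Cert

/-! Base vectors and transport lemmas for the stabiliser orbits. -/

set_option autoImplicit false

namespace CfsgLib.Leech.Stab

open Cfsg CfsgLib

/-- Base vector of squared length 48. -/
noncomputable def ptU : leechLattice := lat 477021337197006099550156565987704303
/-- A minimal vector with scalar product 24 with `ptU`. -/
noncomputable def ptV : leechLattice := lat 519899659641680805127698729222554124
/-- A minimal vector with scalar product -16 with `ptU`. -/
noncomputable def ptM : leechLattice := lat 852206658587909773353650494292640268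
/-- The partner of `ptU` of squared length 48. -/
noncomputable def ptW : leechLattice := lat 728931481559469994818216774992447029
/-- A third point for the configuration of 275. -/
noncomputable def ptX : leechLattice := lat 519899659641676082761215859577340432

theorem pt_checks : latB 477021337197006099550156565987704303 = true ∧
    latB 519899659641680805127698729222554124 = true ∧
    latB 852206658587909773353650494292640268 = true ∧
    latB 728931481559469994818216774992447029 = true ∧
    latB 519899659641676082761215859577340432 = true := by decide +kernel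

theorem dot_lat {n m : ℕ} (hn : latB n = true) (hm : latB m = true) :
    dotInt (lat n : GolayPt → ℤ) (lat m : GolayPt → ℤ) = dotZ (dig 24 n) (dig 24 m) := by
  rw [← dotZ_listOf, (listOf_lat hn).1, (listOf_lat hm).1]

theorem pt_dots : sqNorm (ptU : GolayPt → ℤ) = 48 ∧ sqNorm (ptV : GolayPt → ℤ) = 32 ∧
    sqNorm (ptM : GolayPt → ℤ) = 32 ∧ sqNorm (ptW : GolayPt → ℤ) = 48 ∧
    sqNorm (ptX : GolayPt → ℤ) = 32 ∧
    dotInt (ptV : GolayPt → ℤ) (ptU : GolayPt → ℤ) = 24 ∧
    dotInt (ptM : GolayPt → ℤ) (ptU : GolayPt → ℤ) = -16 ∧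
    dotInt (ptX : GolayPt → ℤ) (ptU : GolayPt → ℤ) = 24 ∧
    dotInt (ptX : GolayPt → ℤ) (ptV : GolayPt → ℤ) = 16 ∧
    dotInt (ptV : GolayPt → ℤ) (ptW : GolayPt → ℤ) = -24 ∧
    -ptU - ptM = ptW := by
  obtain ⟨h1, h2, h3, h4, h5⟩ := pt_checks
  simp only [← dotInt_self, ptU, ptV, ptM, ptW, ptX, dot_lat, h1, h2, h3, h4, h5]
  refine ⟨?_, ?_, ?_, ?_, ?_, ?_, ?_, ?_, ?_, ?_, ?_⟩
  on_goal 11 =>
    refine Subtype.ext ?_
    rw [AddSubgroup.coe_sub, AddSubgroup.coe_neg, coe_lat h1, coe_lat h3, coe_lat h4]
    exact Orbits.eq_of_eqB (by decide +kernel)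
  all_goals decide +kernel

theorem dot_comm (x y : GolayPt → ℤ) : dotInt x y = dotInt y x := by
  simp [dotInt, mul_comm]

theorem dot_neg_left (x y : GolayPt → ℤ) : dotInt (-x) y = -dotInt x y := by
  simp [dotInt, Finset.sum_neg_distrib]

theorem dot_add_left (x y z : GolayPt → ℤ) : dotInt (x + y) z = dotInt x z + dotInt y z := by
  simp [dotInt, add_mul, Finset.sum_add_distrib]

theorem sqNorm_sub (x y : GolayPt → ℤ) : sqNorm (x - y) = sqNorm x - 2 * dotInt x y + sqNorm y := by
  rw [sub_eq_add_neg, sqNorm_add, sqNorm_neg, dot_comm, dot_neg_left, dot_comm y x]; ring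

theorem ncard_eq_of_smul (g : Co0) {S T : Set leechLattice} (h : ∀ x, g • x ∈ T ↔ x ∈ S) :
    S.ncard = T.ncard := by
  have : T = (fun x => g • x) '' S := by
    ext y
    refine ⟨fun hy => ⟨g⁻¹ • y, (h _).1 (by rwa [smul_inv_smul]), smul_inv_smul g y⟩, ?_⟩
    rintro ⟨x, hx, rfl⟩; exact (h x).2 hx
  rw [this, Set.ncard_image_of_injective _ (MulAction.injective g)]

end CfsgLib.Leech.Stab
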