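import Cfsg.Agent.Lib.Leech.Stab.Eleven178
import Cfsg.Agent.Lib.Leech.Stab.Points

/-! Pairs of vectors of squared length 48 with scalar product -32. -/

set_option autoImplicit false

namespace CfsgLib.Leech.Stab

open Cfsg CfsgLib

theorem mem_eleven {x : leechLattice} : x ∈ eleven178Cert.set ↔
    sqNorm (x : GolayPt → ℤ) = 32 ∧ dotInt (x : GolayPt → ℤ) (ptU : GolayPt → ℤ) = -16 := by
  simp [Cert.set, eleven178Cert, ptU]

theorem eleven_ncard : eleven178Cert.set.ncard = 11178 :=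
  (cert_sound eleven178_base eleven178_tree eleven178_nodup eleven178_bound).1.trans
    (by decide +kernel)

/-- A vector of squared length 48 and a minimal one with scalar product -16 are carried to the base. -/
theorem normal_eleven {u x : leechLattice} (hu : sqNorm (u : GolayPt → ℤ) = 48)
    (hx : sqNorm (x : GolayPt → ℤ) = 32) (hd : dotInt (x : GolayPt → ℤ) (u : GolayPt → ℤ) = -16) :
    ∃ g : Co0, g • u = ptU ∧ g • x = ptM := by
  obtain ⟨g, hg⟩ := Orbits.transitive48 u ptU hu pt_dots.1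
  have h1 : g • x ∈ eleven178Cert.set := mem_eleven.2 ⟨by rw [sqNorm_smul]; exact hx,
    by rw [← hg, dotInt_smul]; exact hd⟩
  obtain ⟨k, hk, hkx⟩ := cert_transitive eleven178_base eleven178_tree eleven178_nodup eleven178_bound
    h1 (mem_eleven.2 ⟨pt_dots.2.2.1, pt_dots.2.2.2.2.2.2.1⟩)
  refine ⟨k * g, ?_, by rw [mul_smul, hkx]⟩
  rw [mul_smul, hg]; exact hk (_, -16) (by simp [eleven178Cert])

/-- The count and the transitivity for the minimal vectors of scalar product -16. -/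
theorem transitive_eleven {u : leechLattice} (hu : sqNorm (u : GolayPt → ℤ) = 48) :
    {x : leechLattice | sqNorm (x : GolayPt → ℤ) = 32 ∧
        dotInt (u : GolayPt → ℤ) (x : GolayPt → ℤ) = -16}.ncard = 11178 ∧
      ∀ x x' : leechLattice, sqNorm (x : GolayPt → ℤ) = 32 →
        dotInt (u : GolayPt → ℤ) (x : GolayPt → ℤ) = -16 → sqNorm (x' : GolayPt → ℤ) = 32 →
        dotInt (u : GolayPt → ℤ) (x' : GolayPt → ℤ) = -16 →
        ∃ g : Co0, g • u = u ∧ g • x = x' := by
  obtain ⟨g, hg⟩ := Orbits.transitive48 u ptU hu pt_dots.1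
  refine ⟨(ncard_eq_of_smul g fun x => ?_).trans eleven_ncard, fun x x' hx hd hx' hd' => ?_⟩
  · rw [mem_eleven, sqNorm_smul, ← hg, dotInt_smul, dot_comm]; rfl
  · obtain ⟨a, ha, hax⟩ := normal_eleven hu hx ((dot_comm _ _).trans hd)
    obtain ⟨b, hb, hbx⟩ := normal_eleven hu hx' ((dot_comm _ _).trans hd')
    exact ⟨b⁻¹ * a, by rw [mul_smul, ha, ← hb, inv_smul_smul],
      by rw [mul_smul, hax, ← hbx, inv_smul_smul]⟩

/-- Two vectors of squared length 48 with scalar product -32 are carried to the base pair. -/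
theorem normal_hs {v w : leechLattice} (hv : sqNorm (v : GolayPt → ℤ) = 48)
    (hw : sqNorm (w : GolayPt → ℤ) = 48) (hvw : dotInt (v : GolayPt → ℤ) (w : GolayPt → ℤ) = -32) :
    ∃ g : Co0, g • v = ptU ∧ g • w = ptW := by
  have h1 : sqNorm ((-(v + w) : leechLattice) : GolayPt → ℤ) = 32 := by
    rw [AddSubgroup.coe_neg, sqNorm_neg, AddSubgroup.coe_add, sqNorm_add, hv, hw, hvw]; norm_num
  have h2 : dotInt ((-(v + w) : leechLattice) : GolayPt → ℤ) (v : GolayPt → ℤ) = -16 := by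
    rw [AddSubgroup.coe_neg, dot_neg_left, AddSubgroup.coe_add, dot_add_left, dotInt_self, hv,
      dot_comm (w : GolayPt → ℤ), hvw]
    norm_num
  obtain ⟨g, hg, hgm⟩ := normal_eleven hv h1 h2
  refine ⟨g, hg, ?_⟩
  rw [show w = -v - -(v + w) by abel, sub_eq_add_neg, smul_add', smul_neg', smul_neg', hg, hgm,
    ← sub_eq_add_neg]
  exact pt_dots.2.2.2.2.2.2.2.2.2.2

/-- The two vectors can be exchanged. -/
theorem hs_swap {v w : leechLattice} (hv : sqNorm (v : GolayPt → ℤ) = 48)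
    (hw : sqNorm (w : GolayPt → ℤ) = 48) (hvw : dotInt (v : GolayPt → ℤ) (w : GolayPt → ℤ) = -32) :
    ∃ g : Co0, g • v = w ∧ g • w = v := by
  obtain ⟨a, ha, haw⟩ := normal_hs hv hw hvw
  obtain ⟨b, hb, hbv⟩ := normal_hs hw hv ((dot_comm _ _).trans hvw)
  exact ⟨b⁻¹ * a, by rw [mul_smul, ha, ← hb, inv_smul_smul],
    by rw [mul_smul, haw, ← hbv, inv_smul_smul]⟩

end CfsgLib.Leech.Stab
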