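import Cfsg.Agent.Lib.Leech.Stab.Pairs552
import Cfsg.Agent.Lib.Leech.Stab.Points

/-! The stabiliser of a vector of squared length 48 on the 552 minimal summands. -/

set_option autoImplicit false

namespace CfsgLib.Leech.Stab

open Cfsg CfsgLib

theorem mem_pairs {x : leechLattice} : x ∈ pairs552Cert.set ↔
    sqNorm (x : GolayPt → ℤ) = 32 ∧ dotInt (x : GolayPt → ℤ) (ptU : GolayPt → ℤ) = 24 := by
  simp [Cert.set, pairs552Cert, ptU]

theorem fixes_pairs {g : Co0} (h : pairs552Cert.Fixes g) : g • ptU = ptU :=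
  h (_, 24) (by simp [pairs552Cert])

theorem pairs_sound : pairs552Cert.set.ncard = 552 ∧
    ∀ x y : leechLattice, x ∈ pairs552Cert.set → y ∈ pairs552Cert.set →
      ∃ g : Co0, g • ptU = ptU ∧ g • x = y := by
  refine ⟨(cert_sound pairs552_base pairs552_tree pairs552_nodup pairs552_bound).1.trans
    (by decide +kernel), fun x y hx hy => ?_⟩
  obtain ⟨g, hg, he⟩ := cert_transitive pairs552_base pairs552_tree pairs552_nodup pairs552_bound hx hy
  exact ⟨g, fixes_pairs hg, he⟩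

theorem norm_sub_iff {u v : GolayPt → ℤ} (hu : sqNorm u = 48) (hv : sqNorm v = 32) :
    sqNorm (u - v) = 32 ↔ dotInt v u = 24 := by
  rw [sqNorm_sub, hu, hv, dot_comm]; omega

theorem summand_iff {u x : leechLattice} (hu : sqNorm (u : GolayPt → ℤ) = 48) {g : Co0}
    (hg : g • u = ptU) :
    g • x ∈ pairs552Cert.set ↔ sqNorm (x : GolayPt → ℤ) = 32 ∧
      sqNorm ((u : GolayPt → ℤ) - (x : GolayPt → ℤ)) = 32 := by
  rw [mem_pairs, sqNorm_smul, ← hg, dotInt_smul]
  exact and_congr_right fun h => (norm_sub_iff hu h).symm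

/-- The number of minimal summands. -/
theorem ncard_summands (u : leechLattice) (hu : sqNorm (u : GolayPt → ℤ) = 48) :
    {v : leechLattice | sqNorm (v : GolayPt → ℤ) = 32 ∧
      sqNorm ((u : GolayPt → ℤ) - (v : GolayPt → ℤ)) = 32}.ncard = 552 := by
  obtain ⟨g, hg⟩ := Orbits.transitive48 u ptU hu pt_dots.1
  exact (ncard_eq_of_smul g fun x => summand_iff hu hg).trans pairs_sound.1

/-- A vector of squared length 48 with a minimal summand is carried to the base pair. -/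
theorem normal_pair {u v : leechLattice} (hu : sqNorm (u : GolayPt → ℤ) = 48)
    (hv : sqNorm (v : GolayPt → ℤ) = 32) (hd : dotInt (v : GolayPt → ℤ) (u : GolayPt → ℤ) = 24) :
    ∃ g : Co0, g • u = ptU ∧ g • v = ptV := by
  obtain ⟨g, hg⟩ := Orbits.transitive48 u ptU hu pt_dots.1
  have h1 : g • v ∈ pairs552Cert.set := mem_pairs.2 ⟨by rw [sqNorm_smul]; exact hv,
    by rw [← hg, dotInt_smul]; exact hd⟩
  obtain ⟨k, hk, hkv⟩ := pairs_sound.2 _ ptV h1 (mem_pairs.2 ⟨pt_dots.2.1, pt_dots.2.2.2.2.2.1⟩)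
  exact ⟨k * g, by rw [mul_smul, hg, hk], by rw [mul_smul, hkv]⟩

/-- Transitivity on the minimal summands. -/
theorem transitive_summands {u v v' : leechLattice} (hu : sqNorm (u : GolayPt → ℤ) = 48)
    (hv : sqNorm (v : GolayPt → ℤ) = 32) (hd : dotInt (v : GolayPt → ℤ) (u : GolayPt → ℤ) = 24)
    (hv' : sqNorm (v' : GolayPt → ℤ) = 32) (hd' : dotInt (v' : GolayPt → ℤ) (u : GolayPt → ℤ) = 24) :
    ∃ g : Co0, g • u = u ∧ g • v = v' := by
  obtain ⟨g, hg, hgv⟩ := normal_pair hu hv hd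
  obtain ⟨k, hk, hkv⟩ := normal_pair hu hv' hd'
  exact ⟨k⁻¹ * g, by rw [mul_smul, hg, ← hk, inv_smul_smul],
    by rw [mul_smul, hgv, ← hkv, inv_smul_smul]⟩

/-- Transitivity on minimal vectors of scalar product -8 with a fixed one. -/
theorem transitive_dot_eight {v w w' : leechLattice} (hv : sqNorm (v : GolayPt → ℤ) = 32)
    (hw : sqNorm (w : GolayPt → ℤ) = 32) (hw' : sqNorm (w' : GolayPt → ℤ) = 32)
    (hd : dotInt (v : GolayPt → ℤ) (w : GolayPt → ℤ) = -8)
    (hd' : dotInt (v : GolayPt → ℤ) (w' : GolayPt → ℤ) = -8) :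
    ∃ g : Co0, g • v = v ∧ g • w = w' := by
  have key : ∀ z : leechLattice, sqNorm (z : GolayPt → ℤ) = 32 →
      dotInt (v : GolayPt → ℤ) (z : GolayPt → ℤ) = -8 →
      ∃ g : Co0, g • (v + z) = ptU ∧ g • v = ptV := by
    intro z hz hdz
    refine normal_pair ?_ hv ?_
    · rw [AddSubgroup.coe_add, sqNorm_add, hv, hz, hdz]; norm_num
    · rw [AddSubgroup.coe_add, dot_comm, dot_add_left, dotInt_self, hv,
        dot_comm (z : GolayPt → ℤ), hdz]
      norm_num
  obtain ⟨g, hg, hgv⟩ := key w hw hd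
  obtain ⟨k, hk, hkv⟩ := key w' hw' hd'
  refine ⟨k⁻¹ * g, by rw [mul_smul, hgv, ← hkv, inv_smul_smul], ?_⟩
  have e1 : (k⁻¹ * g) • (v + w) = v + w' := by rw [mul_smul, hg, ← hk, inv_smul_smul]
  rw [smul_add', mul_smul k⁻¹ g v, hgv, ← hkv, inv_smul_smul] at e1
  exact add_left_cancel e1

end CfsgLib.Leech.Stab
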