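import Cfsg.Agent.Lib.Leech.Stab.McL112
import Cfsg.Agent.Lib.Leech.Stab.McL162
import Cfsg.Agent.Lib.Leech.Stab.Co3Pairs

/-! The configuration of 275 minimal vectors and its rank three action. -/

set_option autoImplicit false

namespace CfsgLib.Leech.Stab

open Cfsg CfsgLib

theorem mem_mcl {x : leechLattice} : x ∈ mcL275Cert.set ↔
    sqNorm (x : GolayPt → ℤ) = 32 ∧ dotInt (x : GolayPt → ℤ) (ptU : GolayPt → ℤ) = 24 ∧
      dotInt (x : GolayPt → ℤ) (ptV : GolayPt → ℤ) = 16 := by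
  simp [Cert.set, mcL275Cert, ptU, ptV]

theorem mem_mcl112 {x : leechLattice} : x ∈ mcL112Cert.set ↔
    x ∈ mcL275Cert.set ∧ dotInt (x : GolayPt → ℤ) (ptX : GolayPt → ℤ) = 8 := by
  rw [mem_mcl]; simp [Cert.set, mcL112Cert, ptU, ptV, ptX, and_assoc]

theorem mem_mcl162 {x : leechLattice} : x ∈ mcL162Cert.set ↔
    x ∈ mcL275Cert.set ∧ dotInt (x : GolayPt → ℤ) (ptX : GolayPt → ℤ) = 16 := by
  rw [mem_mcl]; simp [Cert.set, mcL162Cert, ptU, ptV, ptX, and_assoc]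

theorem mcl_ncard : mcL275Cert.set.ncard = 275 ∧ mcL112Cert.set.ncard = 112 ∧
    mcL162Cert.set.ncard = 162 :=
  ⟨(cert_sound mcL275_base mcL275_tree mcL275_nodup mcL275_bound).1.trans (by decide +kernel),
    (cert_sound mcL112_base mcL112_tree mcL112_nodup mcL112_bound).1.trans (by decide +kernel),
    (cert_sound mcL162_base mcL162_tree mcL162_nodup mcL162_bound).1.trans (by decide +kernel)⟩

/-- A point of the configuration is carried to the base point. -/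
theorem normal_mcl {u v x : leechLattice} (hu : sqNorm (u : GolayPt → ℤ) = 48)
    (hv : sqNorm (v : GolayPt → ℤ) = 32) (hvu : dotInt (v : GolayPt → ℤ) (u : GolayPt → ℤ) = 24)
    (hx : sqNorm (x : GolayPt → ℤ) = 32) (hxu : dotInt (x : GolayPt → ℤ) (u : GolayPt → ℤ) = 24)
    (hxv : dotInt (x : GolayPt → ℤ) (v : GolayPt → ℤ) = 16) :
    ∃ g : Co0, g • u = ptU ∧ g • v = ptV ∧ g • x = ptX := by
  obtain ⟨g, hg, hgv⟩ := normal_pair hu hv hvu
  have h1 : g • x ∈ mcL275Cert.set := mem_mcl.2 ⟨by rw [sqNorm_smul]; exact hx,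
    by rw [← hg, dotInt_smul]; exact hxu, by rw [← hgv, dotInt_smul]; exact hxv⟩
  obtain ⟨k, hk, hkx⟩ := cert_transitive mcL275_base mcL275_tree mcL275_nodup mcL275_bound h1
    (mem_mcl.2 ⟨pt_dots.2.2.2.2.1, pt_dots.2.2.2.2.2.2.2.1, pt_dots.2.2.2.2.2.2.2.2.1⟩)
  refine ⟨k * g, ?_, ?_, by rw [mul_smul, hkx]⟩
  · rw [mul_smul, hg]; exact hk (_, 24) (by simp [mcL275Cert])
  · rw [mul_smul, hgv]; exact hk (_, 16) (by simp [mcL275Cert])

/-- The configuration. -/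
def mclSet (u v : leechLattice) : Set leechLattice :=
  {x | sqNorm (x : GolayPt → ℤ) = 32 ∧ sqNorm ((u : GolayPt → ℤ) - (x : GolayPt → ℤ)) = 32 ∧
    dotInt (v : GolayPt → ℤ) (x : GolayPt → ℤ) = 16}

variable {u v x : leechLattice}

theorem smul_mem_mcl (hu : sqNorm (u : GolayPt → ℤ) = 48) {g : Co0} (hg : g • u = ptU)
    (hgv : g • v = ptV) (y : leechLattice) : g • y ∈ mcL275Cert.set ↔ y ∈ mclSet u v := by
  rw [mem_mcl, sqNorm_smul, ← hg, ← hgv, dotInt_smul, dotInt_smul, dot_comm (y : GolayPt → ℤ) v]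
  constructor
  · rintro ⟨h1, h2, h3⟩; exact ⟨h1, (norm_sub_iff hu h1).2 h2, h3⟩
  · rintro ⟨h1, h2, h3⟩; exact ⟨h1, (norm_sub_iff hu h1).1 h2, h3⟩

theorem mcl_transitive (hu : sqNorm (u : GolayPt → ℤ) = 48)
    (hv : sqNorm (v : GolayPt → ℤ) = 32 ∧ sqNorm ((u : GolayPt → ℤ) - (v : GolayPt → ℤ)) = 32) :
    (mclSet u v).ncard = 275 ∧ ∀ x ∈ mclSet u v, ∀ x' ∈ mclSet u v,
      ∃ g : Co0, g • u = u ∧ g • v = v ∧ g • x = x' := by
  have hvu := (norm_sub_iff hu hv.1).1 hv.2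
  obtain ⟨g, hg, hgv⟩ := normal_pair hu hv.1 hvu
  refine ⟨(ncard_eq_of_smul g (smul_mem_mcl hu hg hgv)).trans mcl_ncard.1, ?_⟩
  intro x hx x' hx'
  obtain ⟨a, ha1, ha2, ha3⟩ := normal_mcl hu hv.1 hvu hx.1 ((norm_sub_iff hu hx.1).1 hx.2.1)
    ((dot_comm _ _).trans hx.2.2)
  obtain ⟨b, hb1, hb2, hb3⟩ := normal_mcl hu hv.1 hvu hx'.1 ((norm_sub_iff hu hx'.1).1 hx'.2.1)
    ((dot_comm _ _).trans hx'.2.2)
  exact ⟨b⁻¹ * a, by rw [mul_smul, ha1, ← hb1, inv_smul_smul],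
    by rw [mul_smul, ha2, ← hb2, inv_smul_smul], by rw [mul_smul, ha3, ← hb3, inv_smul_smul]⟩

theorem mcl_rank_three (hu : sqNorm (u : GolayPt → ℤ) = 48)
    (hv : sqNorm (v : GolayPt → ℤ) = 32 ∧ sqNorm ((u : GolayPt → ℤ) - (v : GolayPt → ℤ)) = 32)
    (hx : x ∈ mclSet u v) :
    {y | y ∈ mclSet u v ∧ dotInt (x : GolayPt → ℤ) (y : GolayPt → ℤ) = 8}.ncard = 112 ∧
      {y | y ∈ mclSet u v ∧ y ≠ x ∧ dotInt (x : GolayPt → ℤ) (y : GolayPt → ℤ) = 16}.ncard = 162 ∧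
      ∀ y ∈ mclSet u v, ∀ y' ∈ mclSet u v, y ≠ x → y' ≠ x →
        dotInt (x : GolayPt → ℤ) (y : GolayPt → ℤ) = dotInt (x : GolayPt → ℤ) (y' : GolayPt → ℤ) →
        ∃ g : Co0, g • u = u ∧ g • v = v ∧ g • x = x ∧ g • y = y' := by
  have hvu := (norm_sub_iff hu hv.1).1 hv.2
  obtain ⟨g, hg, hgv, hgx⟩ := normal_mcl hu hv.1 hvu hx.1 ((norm_sub_iff hu hx.1).1 hx.2.1)
    ((dot_comm _ _).trans hx.2.2)
  have hS := smul_mem_mcl hu hg hgv
  have hne : ∀ y : leechLattice, dotInt (x : GolayPt → ℤ) (y : GolayPt → ℤ) = 16 → y ≠ x := by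
    rintro y hy rfl; rw [dotInt_self, hx.1] at hy; norm_num at hy
  have hA : ∀ y, g • y ∈ mcL112Cert.set ↔
      y ∈ mclSet u v ∧ dotInt (x : GolayPt → ℤ) (y : GolayPt → ℤ) = 8 := fun y => by
    rw [mem_mcl112, hS, ← hgx, dotInt_smul, dot_comm]
  have hB : ∀ y, g • y ∈ mcL162Cert.set ↔
      y ∈ mclSet u v ∧ y ≠ x ∧ dotInt (x : GolayPt → ℤ) (y : GolayPt → ℤ) = 16 := fun y => by
    rw [mem_mcl162, hS, ← hgx, dotInt_smul, dot_comm]
    exact ⟨fun h => ⟨h.1, hne y h.2, h.2⟩, fun h => ⟨h.1, h.2.2⟩⟩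
  refine ⟨(ncard_eq_of_smul g hA).trans mcl_ncard.2.1, (ncard_eq_of_smul g hB).trans mcl_ncard.2.2, ?_⟩
  -- every other point has scalar product 8 or 16
  have hcases : ∀ y ∈ mclSet u v, y ≠ x →
      g • y ∈ mcL112Cert.set ∨ g • y ∈ mcL162Cert.set := by
    have hdisj : Disjoint mcL112Cert.set mcL162Cert.set := by
      refine Set.disjoint_left.2 fun z h1 h2 => ?_
      have := (mem_mcl112.1 h1).2; have := (mem_mcl162.1 h2).2; omega
    have hX : ptX ∈ mcL275Cert.set := by rw [← hgx]; exact (hS x).2 hx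
    have hXn : ptX ∉ mcL112Cert.set ∪ mcL162Cert.set := by
      rintro (h | h)
      · have := (mem_mcl112.1 h).2; rw [dotInt_self, pt_dots.2.2.2.2.1] at this; omega
      · have := (mem_mcl162.1 h).2; rw [dotInt_self, pt_dots.2.2.2.2.1] at this; omega
    have hfin : mcL275Cert.set.Finite := mcL275_bound.1
    have hsub : insert ptX (mcL112Cert.set ∪ mcL162Cert.set) ⊆ mcL275Cert.set := by
      rintro z (rfl | h | h)
      · exact hX
      · exact (mem_mcl112.1 h).1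
      · exact (mem_mcl162.1 h).1
    have heq : insert ptX (mcL112Cert.set ∪ mcL162Cert.set) = mcL275Cert.set := by
      refine Set.eq_of_subset_of_ncard_le hsub ?_ hfin
      rw [Set.ncard_insert_of_notMem hXn (mcL112_bound.1.union mcL162_bound.1),
        Set.ncard_union_eq hdisj mcL112_bound.1 mcL162_bound.1, mcl_ncard.1, mcl_ncard.2.1,
        mcl_ncard.2.2]
    intro y hy hyx
    have h1 := (hS y).2 hy
    rw [← heq] at h1
    rcases h1 with h1 | h1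
    · exact absurd (smul_left_cancel g (h1.trans hgx.symm)) hyx
    · exact h1
  intro y hy y' hy' hyx hyx' hd
  rcases hcases y hy hyx with h | h
  · have h' : g • y' ∈ mcL112Cert.set := (hA y').2 ⟨hy', hd ▸ ((hA y).1 h).2⟩
    obtain ⟨k, hk, he⟩ := cert_transitive mcL112_base mcL112_tree mcL112_nodup mcL112_bound h h'
    have f1 : k • ptU = ptU := hk (_, 24) (by simp [mcL112Cert])
    have f2 : k • ptV = ptV := hk (_, 16) (by simp [mcL112Cert])
    have f3 : k • ptX = ptX := hk (_, 8) (by simp [mcL112Cert])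
    exact ⟨g⁻¹ * k * g, by rw [mul_smul, mul_smul, hg, f1, ← hg, inv_smul_smul],
      by rw [mul_smul, mul_smul, hgv, f2, ← hgv, inv_smul_smul],
      by rw [mul_smul, mul_smul, hgx, f3, ← hgx, inv_smul_smul],
      by rw [mul_smul, mul_smul, he, inv_smul_smul]⟩
  · have h' : g • y' ∈ mcL162Cert.set := (hB y').2 ⟨hy', hyx', hd ▸ ((hB y).1 h).2.2⟩
    obtain ⟨k, hk, he⟩ := cert_transitive mcL162_base mcL162_tree mcL162_nodup mcL162_bound h h'
    have f1 : k • ptU = ptU := hk (_, 24) (by simp [mcL162Cert])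
    have f2 : k • ptV = ptV :=
      hk (519899659641680805127698729222554124, 16) (by simp [mcL162Cert])
    have f3 : k • ptX = ptX :=
      hk (519899659641676082761215859577340432, 16) (by simp [mcL162Cert])
    exact ⟨g⁻¹ * k * g, by rw [mul_smul, mul_smul, hg, f1, ← hg, inv_smul_smul],
      by rw [mul_smul, mul_smul, hgv, f2, ← hgv, inv_smul_smul],
      by rw [mul_smul, mul_smul, hgx, f3, ← hgx, inv_smul_smul],
      by rw [mul_smul, mul_smul, he, inv_smul_smul]⟩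

end CfsgLib.Leech.Stab
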