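import Cfsg.Agent.Lib.Leech.Stab.HS22
import Cfsg.Agent.Lib.Leech.Stab.HS77
import Cfsg.Agent.Lib.Leech.Stab.HSPairs

/-! The configuration of 100 minimal vectors and its rank three action. -/

set_option autoImplicit false

namespace CfsgLib.Leech.Stab

open Cfsg CfsgLib

theorem mem_hs {x : leechLattice} : x ∈ hS100Cert.set ↔
    sqNorm (x : GolayPt → ℤ) = 32 ∧ dotInt (x : GolayPt → ℤ) (ptU : GolayPt → ℤ) = 24 ∧
      dotInt (x : GolayPt → ℤ) (ptW : GolayPt → ℤ) = -24 := by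
  simp [Cert.set, hS100Cert, ptU, ptW]

theorem mem_hs22 {x : leechLattice} : x ∈ hS22Cert.set ↔
    x ∈ hS100Cert.set ∧ dotInt (x : GolayPt → ℤ) (ptV : GolayPt → ℤ) = 8 := by
  rw [mem_hs]; simp [Cert.set, hS22Cert, ptU, ptW, ptV, and_assoc]

theorem mem_hs77 {x : leechLattice} : x ∈ hS77Cert.set ↔
    x ∈ hS100Cert.set ∧ dotInt (x : GolayPt → ℤ) (ptV : GolayPt → ℤ) = 16 := by
  rw [mem_hs]; simp [Cert.set, hS77Cert, ptU, ptW, ptV, and_assoc]

theorem hs_ncard : hS100Cert.set.ncard = 100 ∧ hS22Cert.set.ncard = 22 ∧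
    hS77Cert.set.ncard = 77 :=
  ⟨(cert_sound hS100_base hS100_tree hS100_nodup hS100_bound).1.trans (by decide +kernel),
    (cert_sound hS22_base hS22_tree hS22_nodup hS22_bound).1.trans (by decide +kernel),
    (cert_sound hS77_base hS77_tree hS77_nodup hS77_bound).1.trans (by decide +kernel)⟩

/-- The configuration. -/
def hsSet (v w : leechLattice) : Set leechLattice :=
  {x | sqNorm (x : GolayPt → ℤ) = 32 ∧ dotInt (v : GolayPt → ℤ) (x : GolayPt → ℤ) = 24 ∧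
    dotInt (w : GolayPt → ℤ) (x : GolayPt → ℤ) = -24}

variable {v w x : leechLattice}

theorem smul_mem_hs {g : Co0} (hg : g • v = ptU) (hgw : g • w = ptW) (y : leechLattice) :
    g • y ∈ hS100Cert.set ↔ y ∈ hsSet v w := by
  rw [mem_hs, sqNorm_smul, ← hg, ← hgw, dotInt_smul, dotInt_smul, dot_comm (y : GolayPt → ℤ) v,
    dot_comm (y : GolayPt → ℤ) w]
  rfl

/-- A point of the configuration is carried to the base point. -/
theorem normal_hs_point (hv : sqNorm (v : GolayPt → ℤ) = 48)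
    (hw : sqNorm (w : GolayPt → ℤ) = 48) (hvw : dotInt (v : GolayPt → ℤ) (w : GolayPt → ℤ) = -32)
    (hx : x ∈ hsSet v w) : ∃ g : Co0, g • v = ptU ∧ g • w = ptW ∧ g • x = ptV := by
  obtain ⟨g, hg, hgw⟩ := normal_hs hv hw hvw
  obtain ⟨k, hk, hkx⟩ := cert_transitive hS100_base hS100_tree hS100_nodup hS100_bound
    ((smul_mem_hs hg hgw x).2 hx)
    (mem_hs.2 ⟨pt_dots.2.1, pt_dots.2.2.2.2.2.1, pt_dots.2.2.2.2.2.2.2.2.2.1⟩)
  refine ⟨k * g, ?_, ?_, by rw [mul_smul, hkx]⟩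
  · rw [mul_smul, hg]; exact hk (_, 24) (by simp [hS100Cert])
  · rw [mul_smul, hgw]; exact hk (_, -24) (by simp [hS100Cert])

theorem hs_transitive (hv : sqNorm (v : GolayPt → ℤ) = 48)
    (hw : sqNorm (w : GolayPt → ℤ) = 48) (hvw : dotInt (v : GolayPt → ℤ) (w : GolayPt → ℤ) = -32) :
    (hsSet v w).ncard = 100 ∧ ∀ x ∈ hsSet v w, ∀ x' ∈ hsSet v w,
      ∃ g : Co0, g • v = v ∧ g • w = w ∧ g • x = x' := by
  obtain ⟨g, hg, hgw⟩ := normal_hs hv hw hvw
  refine ⟨(ncard_eq_of_smul g (smul_mem_hs hg hgw)).trans hs_ncard.1, fun x hx x' hx' => ?_⟩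
  obtain ⟨a, a1, a2, a3⟩ := normal_hs_point hv hw hvw hx
  obtain ⟨b, b1, b2, b3⟩ := normal_hs_point hv hw hvw hx'
  exact ⟨b⁻¹ * a, by rw [mul_smul, a1, ← b1, inv_smul_smul],
    by rw [mul_smul, a2, ← b2, inv_smul_smul], by rw [mul_smul, a3, ← b3, inv_smul_smul]⟩

theorem hs_rank_three (hv : sqNorm (v : GolayPt → ℤ) = 48)
    (hw : sqNorm (w : GolayPt → ℤ) = 48) (hvw : dotInt (v : GolayPt → ℤ) (w : GolayPt → ℤ) = -32)
    (hx : x ∈ hsSet v w) :
    {y | y ∈ hsSet v w ∧ dotInt (x : GolayPt → ℤ) (y : GolayPt → ℤ) = 8}.ncard = 22 ∧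
      {y | y ∈ hsSet v w ∧ y ≠ x ∧ dotInt (x : GolayPt → ℤ) (y : GolayPt → ℤ) ≠ 8}.ncard = 77 ∧
      ∀ y ∈ hsSet v w, ∀ y' ∈ hsSet v w, y ≠ x → y' ≠ x →
        (dotInt (x : GolayPt → ℤ) (y : GolayPt → ℤ) = 8 ↔
          dotInt (x : GolayPt → ℤ) (y' : GolayPt → ℤ) = 8) →
        ∃ g : Co0, g • v = v ∧ g • w = w ∧ g • x = x ∧ g • y = y' := by
  obtain ⟨g, hg, hgw, hgx⟩ := normal_hs_point hv hw hvw hx
  have hS := smul_mem_hs hg hgw
  have hA : ∀ y, g • y ∈ hS22Cert.set ↔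
      y ∈ hsSet v w ∧ dotInt (x : GolayPt → ℤ) (y : GolayPt → ℤ) = 8 := fun y => by
    rw [mem_hs22, hS, ← hgx, dotInt_smul, dot_comm]
  have hB : ∀ y, g • y ∈ hS77Cert.set ↔
      y ∈ hsSet v w ∧ dotInt (x : GolayPt → ℤ) (y : GolayPt → ℤ) = 16 := fun y => by
    rw [mem_hs77, hS, ← hgx, dotInt_smul, dot_comm]
  have hcases : ∀ y ∈ hsSet v w, y ≠ x →
      g • y ∈ hS22Cert.set ∨ g • y ∈ hS77Cert.set := by
    have hdisj : Disjoint hS22Cert.set hS77Cert.set := by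
      refine Set.disjoint_left.2 fun z h1 h2 => ?_
      have := (mem_hs22.1 h1).2; have := (mem_hs77.1 h2).2; omega
    have hX : ptV ∈ hS100Cert.set := by rw [← hgx]; exact (hS x).2 hx
    have hXn : ptV ∉ hS22Cert.set ∪ hS77Cert.set := by
      rintro (h | h)
      · have := (mem_hs22.1 h).2; rw [dotInt_self, pt_dots.2.1] at this; omega
      · have := (mem_hs77.1 h).2; rw [dotInt_self, pt_dots.2.1] at this; omega
    have hsub : insert ptV (hS22Cert.set ∪ hS77Cert.set) ⊆ hS100Cert.set := by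
      rintro z (rfl | h | h)
      · exact hX
      · exact (mem_hs22.1 h).1
      · exact (mem_hs77.1 h).1
    have heq : insert ptV (hS22Cert.set ∪ hS77Cert.set) = hS100Cert.set := by
      refine Set.eq_of_subset_of_ncard_le hsub ?_ hS100_bound.1
      rw [Set.ncard_insert_of_notMem hXn (hS22_bound.1.union hS77_bound.1),
        Set.ncard_union_eq hdisj hS22_bound.1 hS77_bound.1, hs_ncard.1, hs_ncard.2.1, hs_ncard.2.2]
    intro y hy hyx
    have h1 := (hS y).2 hy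
    rw [← heq] at h1
    rcases h1 with h1 | h1
    · exact absurd (smul_left_cancel g (h1.trans hgx.symm)) hyx
    · exact h1
  have hB' : ∀ y, (y ∈ hsSet v w ∧ y ≠ x ∧ dotInt (x : GolayPt → ℤ) (y : GolayPt → ℤ) ≠ 8) ↔
      g • y ∈ hS77Cert.set := by
    intro y
    constructor
    · rintro ⟨hy, hyx, h8⟩
      exact (hcases y hy hyx).resolve_left fun h => h8 ((hA y).1 h).2
    · intro h
      obtain ⟨hy, h16⟩ := (hB y).1 h
      refine ⟨hy, ?_, by omega⟩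
      rintro rfl
      rw [dotInt_self, hx.1] at h16; omega
  refine ⟨(ncard_eq_of_smul g hA).trans hs_ncard.2.1,
    (ncard_eq_of_smul g fun y => (hB' y).symm).trans hs_ncard.2.2, ?_⟩
  intro y hy y' hy' hyx hyx' hd
  have fin : ∀ k : Co0, k • ptU = ptU → k • ptW = ptW → k • ptV = ptV → k • g • y = g • y' →
      ∃ g : Co0, g • v = v ∧ g • w = w ∧ g • x = x ∧ g • y = y' := fun k f1 f2 f3 he =>
    ⟨g⁻¹ * k * g, by rw [mul_smul, mul_smul, hg, f1, ← hg, inv_smul_smul],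
      by rw [mul_smul, mul_smul, hgw, f2, ← hgw, inv_smul_smul],
      by rw [mul_smul, mul_smul, hgx, f3, ← hgx, inv_smul_smul],
      by rw [mul_smul, mul_smul, he, inv_smul_smul]⟩
  by_cases h8 : dotInt (x : GolayPt → ℤ) (y : GolayPt → ℤ) = 8
  · obtain ⟨k, hk, he⟩ := cert_transitive hS22_base hS22_tree hS22_nodup hS22_bound
      ((hA y).2 ⟨hy, h8⟩) ((hA y').2 ⟨hy', hd.1 h8⟩)
    exact fin k (hk (_, 24) (by simp [hS22Cert])) (hk (_, -24) (by simp [hS22Cert]))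
      (hk (_, 8) (by simp [hS22Cert])) he
  · obtain ⟨k, hk, he⟩ := cert_transitive hS77_base hS77_tree hS77_nodup hS77_bound
      ((hB' y).1 ⟨hy, hyx, h8⟩) ((hB' y').1 ⟨hy', hyx', fun h => h8 (hd.2 h)⟩)
    exact fin k (hk (_, 24) (by simp [hS77Cert])) (hk (_, -24) (by simp [hS77Cert]))
      (hk (_, 16) (by simp [hS77Cert])) he

end CfsgLib.Leech.Stab
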