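import Cfsg.Agent.Lib.Leech.Stab.InvolData
import Cfsg.Agent.Lib.Leech.Stab.HSOrbits

/-! An involution of the joint stabiliser without fixed points among the 100 vectors. -/

set_option autoImplicit false

namespace CfsgLib.Leech.Stab

open Cfsg CfsgLib

theorem ext_e8 {g h : Co0} (H : ∀ p, g • e8L p = h • e8L p) : g = h := by
  refine Subtype.ext (Equiv.ext fun v => ?_)
  have e : ∀ k : Co0, (8 : ℤ) • (k • v) = ∑ p, (v : GolayPt → ℤ) p • (k • e8L p) := fun k => by
    rw [← smul_zsmul', eight_smul_eq, smul_sum']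
    exact Finset.sum_congr rfl fun p _ => smul_zsmul' _ _ _
  have h8 : (8 : ℤ) • (g • v) = (8 : ℤ) • (h • v) := by
    rw [e, e]; exact Finset.sum_congr rfl fun p _ => by rw [H]
  refine Subtype.ext (funext fun i => ?_)
  have := congrFun (congrArg (fun x : leechLattice => (x : GolayPt → ℤ)) h8) i
  simp only [AddSubgroup.coe_zsmul, Pi.smul_apply, smul_eq_mul] at this
  exact mul_left_cancel₀ (by norm_num) this

/-- The check of the involution. -/
def involB : Bool :=
  slpB involSlp && Nat.blt involIdx involSlp.length &&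
    (latB 477021337197006099550156565987704303 &&
      applyC (colsAt involSlp involIdx) 477021337197006099550156565987704303 ==
        8 * colZ 477021337197006099550156565987704303) &&
    (latB 728931481559469994818216774992447029 &&
      applyC (colsAt involSlp involIdx) 728931481559469994818216774992447029 ==
        8 * colZ 728931481559469994818216774992447029) &&
    (colsAt involSlp involIdx).map (applyC (colsAt involSlp involIdx)) ==
      listOf (fun p => 8 * lin (listOf (e8 p))) &&
    hS100Cert.codes.all fun n => applyC (colsAt involSlp involIdx) n != 8 * colZ n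

theorem invol_check : involB = true := by decide +kernel

theorem invol_exists : ∃ g : Co0, g • ptU = ptU ∧ g • ptW = ptW ∧ orderOf g = 2 ∧
    ∀ x ∈ hS100Cert.set, g • x ≠ x := by
  have h := invol_check
  simp only [involB, Bool.and_eq_true, beq_iff_eq, List.all_eq_true, bne_iff_ne, Nat.blt_eq] at h
  obtain ⟨⟨⟨⟨⟨hslp, hidx⟩, hU, hUa⟩, hW, hWa⟩, hsq⟩, hfpf⟩ := h
  obtain ⟨g, hg⟩ := slp_sound hslp _ hidx
  obtain ⟨-, u2, u3⟩ := listOf_lat hU
  obtain ⟨-, w2, w3⟩ := listOf_lat hW
  have hgU : g • ptU = ptU :=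
    Subtype.ext (rep_inj (rep_smul hg u2 u3 hUa) u2 (by rw [sqNorm_smul]; exact u3) u3)
  have hgW : g • ptW = ptW :=
    Subtype.ext (rep_inj (rep_smul hg w2 w3 hWa) w2 (by rw [sqNorm_smul]; exact w3) w3)
  have hlen : (colsAt involSlp involIdx).length = 24 := by
    have := congrArg List.length hg; simpa [listOf_length] using this
  have hgg : g * g = 1 := by
    refine ext_e8 fun p => Subtype.ext (listOf_inj ?_)
    have hi : Golay.bit p < (colsAt involSlp involIdx).length := by rw [hlen]; exact Golay.bit_lt p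
    have e1 : colZ ((colsAt involSlp involIdx)[Golay.bit p]'hi) =
        lin (listOf ((g • e8L p : leechLattice) : GolayPt → ℤ)) := by
      have h3 := List.getElem_of_eq hg (i := Golay.bit p) (by simpa using hi)
      simpa [listOf, Golay.pt_bit] using h3
    have e2 : applyC (colsAt involSlp involIdx) ((colsAt involSlp involIdx)[Golay.bit p]'hi) =
        8 * lin (listOf (e8 p)) := by
      have h3 := List.getElem_of_eq hsq (i := Golay.bit p) (by simpa using hi)
      simpa [listOf, Golay.pt_bit] using h3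
    have e3 := applyC_eq hg (v := g • e8L p) e1.symm (by rw [sqNorm_smul]; simp [e8L, sqNorm_e8])
    rw [e2] at e3
    obtain ⟨n, hn⟩ : ∃ n : ℕ, (n : ℤ) = lin (listOf (e8 p)) + off 24 := by
      refine ⟨(lin (listOf (e8 p)) + off 24).toNat, Int.toNat_of_nonneg ?_⟩
      have : ((List.range 24).all fun i => decide (0 ≤ lin (listOf (e8 (Golay.pt i))) + off 24)) = true := by
        decide +kernel
      have := List.all_eq_true.1 this (Golay.bit p) (List.mem_range.2 (Golay.bit_lt p))
      rwa [Golay.pt_bit, decide_eq_true_eq] at this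
    have r1 : Rep (e8 p) n := by unfold Rep colZ; omega
    have r2 : Rep ((g • g • e8L p : leechLattice) : GolayPt → ℤ) n := by unfold Rep colZ; omega
    rw [mul_smul, one_smul, ← dig_of_rep r2 (by rw [sqNorm_smul, sqNorm_smul]; simp [e8L, sqNorm_e8])]
    exact dig_of_rep r1 ((sqNorm_e8 p).le.trans (by norm_num))
  obtain ⟨-, -, hlist⟩ := cert_sound hS100_base hS100_tree hS100_nodup hS100_bound
  have hmove : ∀ x ∈ hS100Cert.set, g • x ≠ x := by
    intro x hx he
    obtain ⟨n, hn, hrep⟩ := hlist x hx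
    have := applyC_eq hg hrep (by rw [hx.1]; norm_num)
    rw [he] at this
    exact hfpf n hn (by rw [this, hrep])
  refine ⟨g, hgU, hgW, orderOf_eq_prime (by rw [pow_two]; exact hgg) fun h1 => ?_, hmove⟩
  exact hmove ptV (mem_hs.2 ⟨pt_dots.2.1, pt_dots.2.2.2.2.2.1, pt_dots.2.2.2.2.2.2.2.2.2.1⟩)
    (by rw [h1, one_smul])

theorem hs_fpf {v w : leechLattice} (hv : sqNorm (v : GolayPt → ℤ) = 48)
    (hw : sqNorm (w : GolayPt → ℤ) = 48) (hvw : dotInt (v : GolayPt → ℤ) (w : GolayPt → ℤ) = -32) :
    ∃ g : Co0, g • v = v ∧ g • w = w ∧ orderOf g = 2 ∧ ∀ x ∈ hsSet v w, g • x ≠ x := by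
  obtain ⟨a, ha, haw⟩ := normal_hs hv hw hvw
  obtain ⟨g, hU, hW, hord, hmove⟩ := invol_exists
  refine ⟨a⁻¹ * g * a, by rw [mul_smul, mul_smul, ha, hU, ← ha, inv_smul_smul],
    by rw [mul_smul, mul_smul, haw, hW, ← haw, inv_smul_smul], ?_, fun x hx he => ?_⟩
  · have e := MulEquiv.orderOf_eq (MulAut.conj a⁻¹) g
    rw [MulAut.conj_apply, inv_inv] at e
    rw [e, hord]
  · rw [mul_smul, mul_smul, inv_smul_eq_iff] at he
    exact hmove _ ((smul_mem_hs ha haw x).2 hx) he

end CfsgLib.Leech.Stab
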