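import Cfsg.Agent.Lib.Leech.Stab.McL2025
import Cfsg.Agent.Lib.Leech.Stab.Eleven352
import Cfsg.Agent.Lib.Leech.Stab.Eleven1100
import Cfsg.Agent.Lib.Leech.Stab.Eleven4125
import Cfsg.Agent.Lib.Leech.Stab.Eleven5600
import Cfsg.Agent.Lib.Leech.Stab.McL330
import Cfsg.Agent.Lib.Leech.Stab.McL462
import Cfsg.Agent.Lib.Leech.Stab.McL1232
import Cfsg.Agent.Lib.Leech.Stab.HSPairs
import Cfsg.Agent.Lib.Leech.Stab.Co3Pairs
import Cfsg.Agent.Lib.Leech.Stab.HS100

/-! Bounds for suborbits from partitions and double counting. -/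

set_option autoImplicit false

namespace CfsgLib.Leech.Stab

open Cfsg CfsgLib

theorem length_le_ncard {c : Cert} (h : c.baseB = true) (ht : c.treeB = true)
    (hn : nodupB c.codes .leaf = true) (hfin : c.set.Finite) : c.codes.length ≤ c.set.ncard := by
  classical
  have hb := h
  simp only [Cert.baseB, Bool.and_eq_true, List.all_eq_true, beq_iff_eq] at hb
  obtain ⟨⟨⟨⟨-, hfix⟩, hroot⟩, h32⟩, -⟩ := hb
  obtain ⟨hr1, hr2, hr3⟩ := listOf_lat hroot
  have hrset : lat c.root ∈ c.set := by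
    refine ⟨by rw [← dotInt_self, ← dotZ_listOf, hr1, h32], fun e he => ?_⟩
    rw [← dotZ_listOf, hr1, (listOf_lat (hfix e he).1).1, (hfix e he).2]
  have hall := scan_sound h (lat c.root) c.nodes c.codes 0 1 rfl (by simp [Cert.codes]) ht
    (fun i hi _ => ⟨1, fun e _ => one_smul _ _, by
      obtain rfl : i = 0 := by omega
      rw [one_smul]; exact hr2⟩) hr3
  choose G hGfix hGrep using hall
  let F : Fin c.codes.length → leechLattice := fun i => G i i.2 • lat c.root
  have hFset : ∀ i, F i ∈ c.set := fun i => mem_set_smul (hGfix i i.2) hrset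
  have hFinj : Function.Injective F := by
    intro i j hij
    have e1 := hGrep i i.2
    rw [show G i i.2 • lat c.root = F i from rfl, hij] at e1
    have e2 : colZ (c.codes.getD j 0) = colZ (c.codes.getD i 0) := (hGrep j j.2).symm.trans e1
    simp only [colZ] at e2
    have e3 : c.codes.getD j 0 = c.codes.getD i 0 := by omega
    rw [List.getD_eq_getElem _ _ j.2, List.getD_eq_getElem _ _ i.2] at e3
    exact Fin.ext ((nodupB_spec _ _ hn).1.getElem_inj_iff.1 e3).symm
  calc c.codes.length = (Set.range F).ncard := by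
        rw [Set.ncard_range_of_injective hFinj, Nat.card_eq_fintype_card, Fintype.card_fin]
    _ ≤ c.set.ncard := Set.ncard_le_ncard (Set.range_subset_iff.2 hFset) hfin

theorem bounds_of_partition {P : Cert} {n : ℕ} (hfin : P.set.Finite) (cs : Fin n → Cert)
    (f : leechLattice → ℤ) (d : Fin n → ℤ) (hd : Function.Injective d)
    (hsub : ∀ i, ∀ x ∈ (cs i).set, x ∈ P.set ∧ f x = d i)
    (z : leechLattice) (hz : z ∈ P.set) (hzd : ∀ i, f z ≠ d i)
    (hlow : ∀ i, (cs i).set.Finite → (cs i).codes.length ≤ (cs i).set.ncard)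
    (hsum : ∑ i, (cs i).codes.length + 1 = P.set.ncard) : ∀ i, (cs i).Bound := by
  classical
  have hf : ∀ i, (cs i).set.Finite := fun i => hfin.subset fun x hx => (hsub i x hx).1
  have hdis : Set.PairwiseDisjoint (Set.univ : Set (Fin n)) fun i => (cs i).set := by
    intro i _ j _ hij
    exact Set.disjoint_left.2 fun x hx hx' =>
      hij (hd ((hsub i x hx).2.symm.trans (hsub j x hx').2))
  have hU : (⋃ i, (cs i).set).ncard = ∑ i, (cs i).set.ncard := by
    rw [Set.ncard_iUnion_of_finite hf (fun i j hij => hdis trivial trivial hij),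
      finsum_eq_sum_of_fintype]
  have hle : ∑ i, (cs i).set.ncard + 1 ≤ P.set.ncard := by
    rw [← hU, ← Set.ncard_insert_of_notMem (a := z) (fun h => by
      obtain ⟨i, hi⟩ := Set.mem_iUnion.1 h
      exact hzd i (hsub i z hi).2) (Set.finite_iUnion hf)]
    exact Set.ncard_le_ncard (Set.insert_subset hz (Set.iUnion_subset fun i x hx => (hsub i x hx).1)) hfin
  intro i
  refine ⟨hf i, ?_⟩
  by_contra hh
  have : ∑ j, (cs j).codes.length < ∑ j, (cs j).set.ncard :=
    Finset.sum_lt_sum (fun j _ => hlow j (hf j)) ⟨i, Finset.mem_univ i, not_le.1 hh⟩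
  omega

theorem dot_ptW (x : leechLattice) : dotInt (x : GolayPt → ℤ) (ptW : GolayPt → ℤ) =
    -dotInt (x : GolayPt → ℤ) (ptU : GolayPt → ℤ) - dotInt (x : GolayPt → ℤ) (ptM : GolayPt → ℤ) := by
  rw [← pt_dots.2.2.2.2.2.2.2.2.2.2, sub_eq_add_neg, AddSubgroup.coe_add, AddSubgroup.coe_neg,
    AddSubgroup.coe_neg, dot_comm, dot_add_left, dot_neg_left, dot_neg_left, dot_comm (ptU : GolayPt → ℤ),
    dot_comm (ptM : GolayPt → ℤ)]
  ring

theorem mem2025_cert {x : leechLattice} : x ∈ mcL2025Cert.set ↔ sqNorm (x : GolayPt → ℤ) = 32 ∧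
    dotInt (x : GolayPt → ℤ) (ptU : GolayPt → ℤ) = -16 ∧
    dotInt (x : GolayPt → ℤ) (ptV : GolayPt → ℤ) = 0 := by
  simp [Cert.set, mcL2025Cert, ptU, ptV]

theorem mcL2025_bound : mcL2025Cert.Bound := by
  classical
  have hfin : mcL2025Cert.set.Finite := eleven178_bound.1.subset fun x hx =>
    mem_eleven.2 ⟨(mem2025_cert.1 hx).1, (mem2025_cert.1 hx).2.1⟩
  refine ⟨hfin, ?_⟩
  have := eleven178_bound.1.to_subtype
  have := pairs552_bound.1.to_subtype
  have := Fintype.ofFinite eleven178Cert.set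
  have := Fintype.ofFinite pairs552Cert.set
  let A : pairs552Cert.set → Set leechLattice := fun v =>
    {x | x ∈ eleven178Cert.set ∧ dotInt (x : GolayPt → ℤ) (v.1 : GolayPt → ℤ) = 0}
  let B : eleven178Cert.set → Set leechLattice := fun x =>
    {v | v ∈ pairs552Cert.set ∧ dotInt (x.1 : GolayPt → ℤ) (v : GolayPt → ℤ) = 0}
  have : ∀ v, Finite (A v) := fun v => (eleven178_bound.1.subset fun x hx => hx.1).to_subtype
  have : ∀ x, Finite (B x) := fun x => (pairs552_bound.1.subset fun v hv => hv.1).to_subtype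
  let e : (Σ v, A v) ≃ Σ x, B x :=
    { toFun := fun a => ⟨⟨a.2.1, a.2.2.1⟩, ⟨a.1.1, a.1.2, a.2.2.2⟩⟩
      invFun := fun b => ⟨⟨b.2.1, b.2.2.1⟩, ⟨b.1.1, b.1.2, b.2.2.2⟩⟩
      left_inv := fun a => rfl
      right_inv := fun b => rfl }
  have hA : ∀ v, Nat.card (A v) = mcL2025Cert.set.ncard := by
    intro v
    obtain ⟨g, hg, hgv⟩ := pairs_sound.2 v.1 ptV v.2
      (mem_pairs.2 ⟨pt_dots.2.1, pt_dots.2.2.2.2.2.1⟩)
    rw [Nat.card_coe_set_eq]
    refine ncard_eq_of_smul g fun x => ?_
    rw [mem2025_cert, sqNorm_smul]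
    conv_lhs => rw [← hgv, dotInt_smul, ← hg, dotInt_smul]
    show _ ↔ (x ∈ eleven178Cert.set ∧ _)
    rw [mem_eleven, and_assoc]
  have hB : ∀ x, Nat.card (B x) = 100 := by
    intro x
    have hM : ptM ∈ eleven178Cert.set := mem_eleven.2 ⟨pt_dots.2.2.1, pt_dots.2.2.2.2.2.2.1⟩
    obtain ⟨g, hg, hgx⟩ := cert_transitive eleven178_base eleven178_tree eleven178_nodup
      eleven178_bound x.2 hM
    have hgU : g • ptU = ptU := hg (_, -16) (by simp [eleven178Cert])
    rw [Nat.card_coe_set_eq]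
    refine (ncard_eq_of_smul g fun v => ?_).trans
      ((cert_sound hS100_base hS100_tree hS100_nodup hS100_bound).1.trans (by decide +kernel))
    show g • v ∈ hS100Cert.set ↔ (v ∈ pairs552Cert.set ∧ _)
    have e : ∀ y, y ∈ hS100Cert.set ↔ sqNorm (y : GolayPt → ℤ) = 32 ∧
        dotInt (y : GolayPt → ℤ) (ptU : GolayPt → ℤ) = 24 ∧
        dotInt (y : GolayPt → ℤ) (ptW : GolayPt → ℤ) = -24 := fun y => by
      simp [Cert.set, hS100Cert, ptU, ptW]
    rw [e, mem_pairs, dot_ptW, sqNorm_smul]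
    conv_lhs => rw [← hgx, dotInt_smul, ← hgU, dotInt_smul]
    rw [dot_comm (x.1 : GolayPt → ℤ)]
    constructor
    · rintro ⟨a, b, c⟩; exact ⟨⟨a, b⟩, by omega⟩
    · rintro ⟨⟨a, b⟩, c⟩; exact ⟨a, b, by omega⟩
  have h := Nat.card_congr e
  rw [Nat.card_sigma, Nat.card_sigma, Finset.sum_congr rfl (fun v _ => hA v),
    Finset.sum_congr rfl (fun x _ => hB x), Finset.sum_const, Finset.sum_const, Finset.card_univ,
    Finset.card_univ, ← Nat.card_eq_fintype_card, ← Nat.card_eq_fintype_card, Nat.card_coe_set_eq,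
    Nat.card_coe_set_eq, pairs_sound.1, eleven_ncard, smul_eq_mul, smul_eq_mul] at h
  have hl : mcL2025Cert.codes.length = 2025 := by decide +kernel
  omega

theorem eleven_parts : eleven352Cert.Bound ∧ eleven1100Cert.Bound ∧ eleven4125Cert.Bound ∧
    eleven5600Cert.Bound := by
  have h := bounds_of_partition eleven178_bound.1
    ![eleven352Cert, eleven1100Cert, eleven4125Cert, eleven5600Cert]
    (fun x => dotInt (x : GolayPt → ℤ) (ptM : GolayPt → ℤ)) ![-8, 16, 0, 8] (by decide)
    (by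
      intro i x hx
      rw [mem_eleven]
      fin_cases i <;>
        simpa [Cert.set, eleven352Cert, eleven1100Cert, eleven4125Cert, eleven5600Cert, ptU, ptM,
          and_assoc] using hx)
    ptM (mem_eleven.2 ⟨pt_dots.2.2.1, pt_dots.2.2.2.2.2.2.1⟩)
    (by
      intro i
      show dotInt (ptM : GolayPt → ℤ) (ptM : GolayPt → ℤ) ≠ _
      rw [dotInt_self, pt_dots.2.2.1]
      fin_cases i <;> simp)
    (by
      intro i
      fin_cases i
      · exact length_le_ncard eleven352_base eleven352_tree eleven352_nodup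
      · exact length_le_ncard eleven1100_base eleven1100_tree eleven1100_nodup
      · exact length_le_ncard eleven4125_base eleven4125_tree eleven4125_nodup
      · exact length_le_ncard eleven5600_base eleven5600_tree eleven5600_nodup)
    (by
      rw [eleven_ncard, Fin.sum_univ_four]
      decide +kernel)
  exact ⟨h 0, h 1, h 2, h 3⟩

theorem mcl_parts : mcL330Cert.Bound ∧ mcL462Cert.Bound ∧ mcL1232Cert.Bound := by
  have h2025 : mcL2025Cert.set.ncard = 2025 :=
    (cert_sound mcL2025_base mcL2025_tree mcL2025_nodup mcL2025_bound).1.trans (by decide +kernel)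
  obtain ⟨-, h2, h3, -, -⟩ := pt_checks
  have h := bounds_of_partition mcL2025_bound.1
    ![mcL330Cert, mcL462Cert, mcL1232Cert]
    (fun x => dotInt (x : GolayPt → ℤ) (ptM : GolayPt → ℤ)) ![0, 16, 8] (by decide)
    (by
      intro i x hx
      rw [mem2025_cert]
      fin_cases i <;>
        simpa [Cert.set, mcL330Cert, mcL462Cert, mcL1232Cert, ptU, ptV, ptM, and_assoc] using hx)
    ptM (mem2025_cert.2 ⟨pt_dots.2.2.1, pt_dots.2.2.2.2.2.2.1, by
      rw [ptM, ptV, dot_lat h3 h2]; decide +kernel⟩)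
    (by
      intro i
      show dotInt (ptM : GolayPt → ℤ) (ptM : GolayPt → ℤ) ≠ _
      rw [dotInt_self, pt_dots.2.2.1]
      fin_cases i <;> simp)
    (by
      intro i
      fin_cases i
      · exact length_le_ncard mcL330_base mcL330_tree mcL330_nodup
      · exact length_le_ncard mcL462_base mcL462_tree mcL462_nodup
      · exact length_le_ncard mcL1232_base mcL1232_tree mcL1232_nodup)
    (by
      rw [h2025, Fin.sum_univ_three]
      decide +kernel)
  exact ⟨h 0, h 1, h 2⟩

end CfsgLib.Leech.Stab
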