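import Cfsg.Agent.Lib.Leech.Stab.Fast

/-! Orbits of stabilisers, certified by a spanning tree and a covering count. -/

set_option autoImplicit false

namespace CfsgLib.Leech.Stab

open Cfsg CfsgLib
open CfsgLib.Leech.Orbits (vecOf)

theorem dig_length : ∀ k n, (dig k n).length = k
  | 0, _ => rfl
  | k + 1, n => by simp [dig, dig_length k]

theorem listOf_vecOf {l : List ℤ} (h : l.length = 24) : listOf (vecOf l) = l := by
  refine List.ext_getElem (by simp [listOf_length, h]) fun i h1 h2 => ?_
  simp only [listOf, List.getElem_map, List.getElem_range, vecOf]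
  rw [Golay.bit_pt (by omega), List.getD_eq_getElem _ _ h2]

/-- The lattice vector with a given packed value. -/
noncomputable def lat (n : ℕ) : leechLattice :=
  if h : leechB (vecOf (dig 24 n)) = true then ⟨_, mem_of_leechB h⟩ else 0

/-- Check that a packed value represents a lattice vector of norm at most 80. -/
def latB (n : ℕ) : Bool :=
  leechB (vecOf (dig 24 n)) && lin (dig 24 n) == colZ n &&
    decide (dotZ (dig 24 n) (dig 24 n) ≤ 80)

theorem listOf_lat {n : ℕ} (h : latB n = true) :
    listOf (lat n : GolayPt → ℤ) = dig 24 n ∧ Rep (lat n : GolayPt → ℤ) n ∧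
      sqNorm (lat n : GolayPt → ℤ) ≤ 80 := by
  simp only [latB, Bool.and_eq_true, beq_iff_eq, decide_eq_true_eq] at h
  obtain ⟨⟨h1, h2⟩, h3⟩ := h
  have e : listOf (lat n : GolayPt → ℤ) = dig 24 n := by
    rw [lat, dif_pos h1]; exact listOf_vecOf (dig_length _ _)
  refine ⟨e, by rw [Rep, e, h2], ?_⟩
  rw [← dotInt_self, ← dotZ_listOf, e]; exact h3

theorem coe_lat {n : ℕ} (h : latB n = true) : (lat n : GolayPt → ℤ) = vecOf (dig 24 n) :=
  listOf_inj ((listOf_lat h).1.trans (listOf_vecOf (dig_length _ _)).symm)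

/-- A certificate: fixed vectors with the prescribed scalar products, generators, spanning tree. -/
structure Cert where
  fix : List (ℕ × ℤ)
  slp : List (Op × List ℕ)
  gens : List ℕ
  root : ℕ
  nodes : List (ℕ × ℕ × ℕ)

/-- All vectors of the tree. -/
def Cert.codes (c : Cert) : List ℕ := c.root :: c.nodes.map (·.1)

/-- The set described by a certificate. -/
def Cert.set (c : Cert) : Set leechLattice :=
  {x | sqNorm (x : GolayPt → ℤ) = 32 ∧
    ∀ e ∈ c.fix, dotInt (x : GolayPt → ℤ) (lat e.1 : GolayPt → ℤ) = e.2}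

/-- The elements fixing the fixed vectors. -/
def Cert.Fixes (c : Cert) (g : Co0) : Prop := ∀ e ∈ c.fix, g • lat e.1 = lat e.1

/-- The check of the generators and the base vectors. -/
def Cert.baseB (c : Cert) : Bool :=
  slpB c.slp && c.fix.all (fun e => latB e.1 && dotZ (dig 24 c.root) (dig 24 e.1) == e.2) &&
    latB c.root && dotZ (dig 24 c.root) (dig 24 c.root) == 32 &&
    c.gens.all fun g => Nat.blt g c.slp.length &&
      c.fix.all fun e => applyC (colsAt c.slp g) e.1 == 8 * colZ e.1

/-- The scan of the tree. -/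
def scanB (c : Cert) : List ℕ → ℕ → ℕ → List (ℕ × ℕ × ℕ) → Bool
  | _, _, _, [] => true
  | queue, pi, k, (code, skip, g) :: rest =>
    match queue.drop skip with
    | [] => false
    | par :: q => Nat.blt (pi + skip) k && Nat.blt g c.gens.length &&
        applyB (colsAt c.slp (c.gens.getD g 0)) par code &&
        scanB c (par :: q) (pi + skip) (k + 1) rest

/-- The check of the tree. -/
def Cert.treeB (c : Cert) : Bool := scanB c c.codes 0 1 c.nodes

/-- Search trees. -/
inductive Tr where
  | leaf : Tr
  | node : Tr → ℕ → Tr → Tr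

/-- Membership in a search tree. -/
def Tr.has : Tr → ℕ → Bool
  | .leaf, _ => false
  | .node l k r, a => bif Nat.blt a k then l.has a else bif Nat.blt k a then r.has a else true

/-- Insertion of a new element. -/
def Tr.ins : Tr → ℕ → Option Tr
  | .leaf, a => some (.node .leaf a .leaf)
  | .node l k r, a =>
    bif Nat.blt a k then (l.ins a).map (fun t => .node t k r)
    else bif Nat.blt k a then (r.ins a).map (fun t => .node l k t) else none

theorem Tr.ins_spec : ∀ (t : Tr) (a : ℕ) (t' : Tr), t.ins a = some t' →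
    t.has a = false ∧ t'.has a = true ∧ ∀ b, t.has b = true → t'.has b = true := by
  intro t
  induction t with
  | leaf =>
    intro a t' h
    simp only [Tr.ins, Option.some.injEq] at h
    subst h
    refine ⟨rfl, ?_, fun b hb => by simp [Tr.has] at hb⟩
    rcases h1 : Nat.blt a a with _ | _
    · simp [Tr.has, h1]
    · simp at h1
  | node l k r ihl ihr =>
    intro a t' h
    rcases h1 : Nat.blt a k with _ | _ <;> simp only [Tr.ins, h1, cond_true, cond_false] at h
    · rcases h2 : Nat.blt k a with _ | _ <;> simp only [h2, cond_true, cond_false] at h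
      · exact absurd h (by simp)
      · simp only [Option.map_eq_some_iff] at h
        obtain ⟨u, hu, rfl⟩ := h
        obtain ⟨g1, g2, g3⟩ := ihr a u hu
        refine ⟨by simp [Tr.has, h1, h2, g1], by simp [Tr.has, h1, h2, g2], fun b hb => ?_⟩
        simp only [Tr.has] at hb ⊢
        cases h3 : Nat.blt b k <;> cases h4 : Nat.blt k b <;>
          simp only [h3, h4, cond_true, cond_false] at hb ⊢ <;>
          first | exact g3 b hb | exact hb
    · simp only [Option.map_eq_some_iff] at h
      obtain ⟨u, hu, rfl⟩ := h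
      obtain ⟨g1, g2, g3⟩ := ihl a u hu
      refine ⟨by simp [Tr.has, h1, g1], by simp [Tr.has, h1, g2], fun b hb => ?_⟩
      simp only [Tr.has] at hb ⊢
      cases h3 : Nat.blt b k <;> cases h4 : Nat.blt k b <;>
        simp only [h3, h4, cond_true, cond_false] at hb ⊢ <;>
        first | exact g3 b hb | exact hb

/-- Check of pairwise distinctness. -/
def nodupB : List ℕ → Tr → Bool
  | [], _ => true
  | a :: l, t => match t.ins a with
    | none => false
    | some t' => nodupB l t'

theorem nodupB_spec : ∀ (l : List ℕ) (t : Tr), nodupB l t = true →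
    l.Nodup ∧ ∀ a ∈ l, t.has a = false := by
  intro l
  induction l with
  | nil => intro t _; simp
  | cons a l ih =>
    intro t h
    unfold nodupB at h
    split at h
    · exact absurd h Bool.false_ne_true
    · rename_i t' ht
      obtain ⟨h1, h2, h3⟩ := Tr.ins_spec t a t' ht
      obtain ⟨g1, g2⟩ := ih t' h
      refine ⟨List.nodup_cons.2 ⟨fun hm => ?_, g1⟩, ?_⟩
      · have := g2 a hm; rw [h2] at this; simp at this
      · intro b hb
        rcases List.mem_cons.1 hb with rfl | hb
        · exact h1
        · by_contra hne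
          rw [Bool.not_eq_false] at hne
          have := g2 b hb; rw [h3 b hne] at this; simp at this

/-- The upper bound on the number of vectors. -/
def Cert.Bound (c : Cert) : Prop := c.set.Finite ∧ c.set.ncard ≤ c.codes.length

/-- The covering count is at most the size of the tree. -/
def Cert.fastB (c : Cert) : Bool :=
  match c.fix with
  | [(n, d)] => latB n && decide (-256 ≤ d) &&
      (dig 24 n).all (fun a => decide (-8 ≤ a ∧ a ≤ 8)) &&
      Nat.beq (fastCount d (dig 24 n)) c.codes.length
  | _ => false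

/-- Members of a larger set satisfying the conditions are at most as many as the size of the tree. -/
def Cert.subB (c P : Cert) : Bool :=
  (P.fix.all fun e => c.fix.any fun e' => Nat.beq e.1 e'.1 && e.2 == e'.2) &&
    c.fix.all (fun e => latB e.1) &&
    Nat.ble (P.codes.filter fun n =>
      c.fix.all fun e => dotZ (dig 24 n) (dig 24 e.1) == e.2).length c.codes.length

variable {c : Cert}

theorem mem_set_smul {g : Co0} (hg : c.Fixes g) {x : leechLattice} (hx : x ∈ c.set) :
    g • x ∈ c.set := by
  refine ⟨by rw [sqNorm_smul]; exact hx.1, fun e he => ?_⟩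
  rw [← hg e he, dotInt_smul]; exact hx.2 e he

theorem scan_sound (h : c.baseB = true) (r : leechLattice) :
    ∀ (rest : List (ℕ × ℕ × ℕ)) (queue : List ℕ) (pi k : ℕ), queue = c.codes.drop pi →
      c.codes.drop k = rest.map (·.1) → scanB c queue pi k rest = true →
      (∀ i < k, i < c.codes.length → ∃ g : Co0, c.Fixes g ∧
        Rep ((g • r : leechLattice) : GolayPt → ℤ) (c.codes.getD i 0)) →
      sqNorm (r : GolayPt → ℤ) ≤ 80 →
      ∀ i < c.codes.length, ∃ g : Co0, c.Fixes g ∧
        Rep ((g • r : leechLattice) : GolayPt → ℤ) (c.codes.getD i 0) := by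
  intro rest
  induction rest with
  | nil =>
    intro queue pi k _ hk _ hall _ i hi
    have hk' : c.codes.length ≤ k := List.drop_eq_nil_iff.1 hk
    exact hall i (by omega) hi
  | cons e rest ih =>
    obtain ⟨code, skip, g⟩ := e
    intro queue pi k hq hk hscan hall hr
    unfold scanB at hscan
    split at hscan
    · exact absurd hscan Bool.false_ne_true
    · rename_i par q hdrop
      simp only [Bool.and_eq_true, Nat.blt_eq, beq_iff_eq] at hscan
      obtain ⟨⟨⟨hlt, hg⟩, happ⟩, hscan⟩ := hscan
      rw [hq, List.drop_drop] at hdrop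
      have hk2 : k < c.codes.length := by
        by_contra hh
        rw [List.drop_eq_nil_of_le (not_lt.1 hh)] at hk
        simp at hk
      have hpar : c.codes.getD (pi + skip) 0 = par := by
        rw [List.getD_eq_getElem?_getD, ← List.head?_drop, hdrop]; rfl
      have hcode : c.codes.getD k 0 = code := by
        rw [List.getD_eq_getElem?_getD, ← List.head?_drop, hk]; rfl
      have hk' : c.codes.drop (k + 1) = rest.map (·.1) := by
        rw [← List.tail_drop, hk]; rfl
      refine ih (par :: q) (pi + skip) (k + 1) hdrop.symm hk' hscan ?_ hr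
      intro i hi hi'
      rcases Nat.lt_succ_iff_lt_or_eq.1 hi with hi | rfl
      · exact hall i hi hi'
      obtain ⟨g₁, hg₁, hrep⟩ := hall _ hlt (by omega)
      rw [hpar] at hrep
      simp only [Cert.baseB, Bool.and_eq_true, List.all_eq_true, Nat.blt_eq, beq_iff_eq] at h
      obtain ⟨⟨⟨⟨hslp, hfix⟩, -⟩, -⟩, hgens⟩ := h
      have hmem : c.gens.getD g 0 ∈ c.gens := by
        rw [List.getD_eq_getElem _ _ hg]; exact List.getElem_mem hg
      obtain ⟨g₂, hg₂⟩ := slp_sound hslp _ (hgens _ hmem).1
      refine ⟨g₂ * g₁, fun e he => ?_, ?_⟩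
      · obtain ⟨hl1, hl2, hl3⟩ := listOf_lat (hfix e he).1
        have hfix2 : g₂ • lat e.1 = lat e.1 := by
          refine Subtype.ext (rep_inj (rep_smul hg₂ hl2 hl3 ((hgens _ hmem).2 e he)) hl2 ?_ hl3)
          rw [sqNorm_smul]; exact hl3
        rw [mul_smul, hg₁ e he, hfix2]
      · rw [mul_smul, hcode]
        exact rep_smul hg₂ hrep (by rw [sqNorm_smul]; exact hr) (applyC_of_applyB happ)

/-- The main theorem: the set is one orbit of the stabiliser, of the size of the tree. -/
theorem cert_sound (h : c.baseB = true) (ht : c.treeB = true) (hn : nodupB c.codes .leaf = true)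
    (hc : c.Bound) :
    c.set.ncard = c.codes.length ∧ (∀ x ∈ c.set, ∃ g : Co0, c.Fixes g ∧ g • lat c.root = x) ∧
      ∀ x ∈ c.set, ∃ n ∈ c.codes, Rep (x : GolayPt → ℤ) n := by
  classical
  have hb := h
  simp only [Cert.baseB, Bool.and_eq_true, List.all_eq_true, beq_iff_eq] at hb
  obtain ⟨⟨⟨⟨-, hfix⟩, hroot⟩, h32⟩, -⟩ := hb
  obtain ⟨hr1, hr2, hr3⟩ := listOf_lat hroot
  have hrset : lat c.root ∈ c.set := by
    refine ⟨by rw [← dotInt_self, ← dotZ_listOf, hr1, h32], fun e he => ?_⟩
    rw [← dotZ_listOf, hr1, (listOf_lat (hfix e he).1).1, (hfix e he).2]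
  have hall := scan_sound h (lat c.root) c.nodes c.codes 0 1 rfl (by simp [Cert.codes]) ht
    (fun i hi _ => ⟨1, fun e _ => one_smul _ _, by
      obtain rfl : i = 0 := by omega
      rw [one_smul]; exact hr2⟩) hr3
  choose G hGfix hGrep using hall
  let F : Fin c.codes.length → leechLattice := fun i => G i i.2 • lat c.root
  have hFset : ∀ i, F i ∈ c.set := fun i => mem_set_smul (hGfix i i.2) hrset
  have hFinj : Function.Injective F := by
    intro i j hij
    have e1 := hGrep i i.2
    rw [show G i i.2 • lat c.root = F i from rfl, hij] at e1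
    have e2 : colZ (c.codes.getD j 0) = colZ (c.codes.getD i 0) := (hGrep j j.2).symm.trans e1
    simp only [colZ] at e2
    have e3 : c.codes.getD j 0 = c.codes.getD i 0 := by omega
    rw [List.getD_eq_getElem _ _ j.2, List.getD_eq_getElem _ _ i.2] at e3
    exact Fin.ext ((nodupB_spec _ _ hn).1.getElem_inj_iff.1 e3).symm
  obtain ⟨hsfin, hle⟩ := hc
  have hrange : Set.range F ⊆ c.set := Set.range_subset_iff.2 hFset
  have hcardF : (Set.range F).ncard = c.codes.length := by
    rw [Set.ncard_range_of_injective hFinj, Nat.card_eq_fintype_card, Fintype.card_fin]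
  have heq : Set.range F = c.set :=
    Set.eq_of_subset_of_ncard_le hrange (by omega) hsfin
  refine ⟨by rw [← heq, hcardF], fun x hx => ?_, fun x hx => ?_⟩
  · rw [← heq] at hx
    obtain ⟨i, rfl⟩ := hx
    exact ⟨G i i.2, hGfix i i.2, rfl⟩
  · rw [← heq] at hx
    obtain ⟨i, rfl⟩ := hx
    refine ⟨c.codes.getD i 0, ?_, hGrep i i.2⟩
    rw [List.getD_eq_getElem _ _ i.2]; exact List.getElem_mem i.2

/-- Transitivity, between any two members. -/
theorem cert_transitive (h : c.baseB = true) (ht : c.treeB = true)
    (hn : nodupB c.codes .leaf = true) (hc : c.Bound) {x y : leechLattice}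
    (hx : x ∈ c.set) (hy : y ∈ c.set) : ∃ g : Co0, c.Fixes g ∧ g • x = y := by
  obtain ⟨gx, hgx, rfl⟩ := (cert_sound h ht hn hc).2.1 x hx
  obtain ⟨gy, hgy, rfl⟩ := (cert_sound h ht hn hc).2.1 y hy
  refine ⟨gy * gx⁻¹, fun e he => ?_, by rw [mul_smul, inv_smul_smul]⟩
  rw [mul_smul, inv_smul_eq_iff.2 (hgx e he).symm, hgy e he]

/-- The bound from the covering count. -/
theorem bound_of_fast (h : c.fastB = true) : c.Bound := by
  rcases hfix : c.fix with _ | ⟨⟨n, d⟩, _ | ⟨e, l⟩⟩ <;>
    simp only [Cert.fastB, hfix, Bool.false_eq_true, Bool.and_eq_true, decide_eq_true_eq] at h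
  obtain ⟨⟨⟨hlat, hd⟩, hb⟩, hcount⟩ := h
  have himg : Set.InjOn (fun x : leechLattice => (x : GolayPt → ℤ)) c.set :=
    Subtype.val_injective.injOn
  obtain ⟨hfin, hle⟩ := ncard_le (st := [(d, dig 24 n)])
    (W := (fun x : leechLattice => (x : GolayPt → ℤ)) '' c.set) (by
      rintro _ ⟨x, hx, rfl⟩
      refine ⟨x.2, hx.1, fun e he => ?_⟩
      rw [List.mem_singleton] at he
      subst he
      exact ⟨_, (listOf_lat hlat).1.symm, hx.2 (n, d) (by rw [hfix]; exact List.mem_singleton_self _)⟩)
  rw [Set.ncard_image_of_injOn himg, ← fastCount_eq (dig_length _ _) hb hd,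
    Nat.eq_of_beq_eq_true hcount] at hle
  exact ⟨Set.Finite.of_finite_image hfin himg, hle⟩

/-- The bound from a larger set. -/
theorem bound_of_sub {P : Cert} (hP : P.baseB = true) (hPt : P.treeB = true)
    (hPn : nodupB P.codes .leaf = true) (hPc : P.Bound) (h : c.subB P = true) : c.Bound := by
  classical
  simp only [Cert.subB, Bool.and_eq_true, List.all_eq_true, List.any_eq_true, Nat.beq_eq,
    beq_iff_eq, Nat.ble_eq] at h
  obtain ⟨⟨hsub, hlat⟩, hcount⟩ := h
  obtain ⟨-, -, hlist⟩ := cert_sound hP hPt hPn hPc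
  set good := P.codes.filter fun n =>
    c.fix.all fun e => dotZ (dig 24 n) (dig 24 e.1) == e.2
  have hcover : ∀ x ∈ c.set, ∃ n ∈ good, Rep (x : GolayPt → ℤ) n := by
    intro x hx
    have hxP : x ∈ P.set := by
      refine ⟨hx.1, fun e he => ?_⟩
      obtain ⟨e', he', h1, h2⟩ := hsub e he
      rw [h1, h2]; exact hx.2 e' he'
    obtain ⟨n, hn, hrep⟩ := hlist x hxP
    refine ⟨n, List.mem_filter.2 ⟨hn, ?_⟩, hrep⟩
    simp only [List.all_eq_true, beq_iff_eq]
    intro e he
    rw [dig_of_rep hrep (by rw [hx.1]; norm_num), ← (listOf_lat (hlat e he)).1, dotZ_listOf]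
    exact hx.2 e he
  choose F hF hFrep using hcover
  have hinj : ∀ x (hx : x ∈ c.set) y (hy : y ∈ c.set), F x hx = F y hy → x = y := by
    intro x hx y hy he
    refine Subtype.ext (rep_inj (hFrep x hx) ?_ (by rw [hx.1]; norm_num) (by rw [hy.1]; norm_num))
    rw [he]; exact hFrep y hy
  let G : c.set → (good.toFinset : Finset ℕ) := fun x => ⟨F x x.2, List.mem_toFinset.2 (hF x x.2)⟩
  have hG : Function.Injective G := fun x y he =>
    Subtype.ext (hinj x x.2 y y.2 (congrArg Subtype.val he))
  have hfin : c.set.Finite := by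
    have := Finite.of_injective G hG
    exact Set.toFinite _
  refine ⟨hfin, ?_⟩
  rw [← Nat.card_coe_set_eq]
  refine le_trans (Nat.card_le_card_of_injective G hG) ?_
  rw [Nat.card_eq_finsetCard]
  exact le_trans (List.toFinset_card_le _) hcount

end CfsgLib.Leech.Stab
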