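import Cfsg.Agent.Lib.Leech.Stab.Cross46
import Cfsg.Agent.Lib.Leech.Stab.CoTwo4600
import Cfsg.Agent.Lib.Leech.Stab.Co3Pairs
import Cfsg.Agent.Lib.Leech.CensusValues

/-! Orbits of the stabiliser of a minimal vector and the census of scalar products. -/

set_option autoImplicit false

namespace CfsgLib.Leech.Stab

open Cfsg CfsgLib

/-- The base vector of squared length 64. -/
noncomputable def ptT : leechLattice := lat 1018360158061024257466626376827683344
/-- The base minimal vector. -/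
noncomputable def ptP : leechLattice := lat 852206658587909773353650494292640276

theorem ptTP_facts : sqNorm (ptT : GolayPt → ℤ) = 64 ∧ sqNorm (ptP : GolayPt → ℤ) = 32 ∧
    dotInt (ptP : GolayPt → ℤ) (ptT : GolayPt → ℤ) = 32 := by
  have h1 : latB 1018360158061024257466626376827683344 = true := by decide +kernel
  have h2 : latB 852206658587909773353650494292640276 = true := by decide +kernel
  simp only [← dotInt_self, ptT, ptP, dot_lat, h1, h2]
  decide +kernel

theorem mem_cross {x : leechLattice} : x ∈ cross46Cert.set ↔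
    sqNorm (x : GolayPt → ℤ) = 32 ∧ dotInt (x : GolayPt → ℤ) (ptT : GolayPt → ℤ) = 32 := by
  simp [Cert.set, cross46Cert, ptT]

theorem mem_four {x : leechLattice} : x ∈ coTwo4600Cert.set ↔
    sqNorm (x : GolayPt → ℤ) = 32 ∧ dotInt (x : GolayPt → ℤ) (ptP : GolayPt → ℤ) = -16 := by
  simp [Cert.set, coTwo4600Cert, ptP]

theorem co2_ncard : cross46Cert.set.ncard = 46 ∧ coTwo4600Cert.set.ncard = 4600 :=
  ⟨(cert_sound cross46_base cross46_tree cross46_nodup cross46_bound).1.trans (by decide +kernel),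
    (cert_sound coTwo4600_base coTwo4600_tree coTwo4600_nodup coTwo4600_bound).1.trans
      (by decide +kernel)⟩

/-- An orthogonal pair of minimal vectors is carried to the base. -/
theorem normal_orth {v w : leechLattice} (hv : sqNorm (v : GolayPt → ℤ) = 32)
    (hw : sqNorm (w : GolayPt → ℤ) = 32) (hd : dotInt (v : GolayPt → ℤ) (w : GolayPt → ℤ) = 0) :
    ∃ g : Co0, g • v = ptP ∧ g • w = ptT - ptP := by
  have ht : sqNorm ((v + w : leechLattice) : GolayPt → ℤ) = 64 := by
    rw [AddSubgroup.coe_add, sqNorm_add, hv, hw, hd]; norm_num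
  obtain ⟨g, hg⟩ := Orbits.transitive64 (v + w) ptT ht ptTP_facts.1
  have h1 : g • v ∈ cross46Cert.set := mem_cross.2 ⟨by rw [sqNorm_smul]; exact hv, by
    rw [← hg, dotInt_smul, AddSubgroup.coe_add, dot_comm, dot_add_left, dotInt_self, hv,
      dot_comm (w : GolayPt → ℤ), hd]
    norm_num⟩
  obtain ⟨k, hk, hkv⟩ := cert_transitive cross46_base cross46_tree cross46_nodup cross46_bound h1
    (mem_cross.2 ⟨ptTP_facts.2.1, ptTP_facts.2.2⟩)
  have hkT : k • ptT = ptT := hk (_, 32) (by simp [cross46Cert])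
  refine ⟨k * g, by rw [mul_smul, hkv], ?_⟩
  have e : (k * g) • (v + w) = ptT := by rw [mul_smul, hg, hkT]
  rw [smul_add', mul_smul k g v, hkv] at e
  exact eq_sub_of_add_eq' e

/-- A minimal vector is carried to the base one, as is one of scalar product -16 with it. -/
theorem transitive_dot_sixteen {v w w' : leechLattice} (hv : sqNorm (v : GolayPt → ℤ) = 32)
    (hw : sqNorm (w : GolayPt → ℤ) = 32) (hw' : sqNorm (w' : GolayPt → ℤ) = 32)
    (hd : dotInt (v : GolayPt → ℤ) (w : GolayPt → ℤ) = -16)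
    (hd' : dotInt (v : GolayPt → ℤ) (w' : GolayPt → ℤ) = -16) :
    ∃ g : Co0, g • v = v ∧ g • w = w' := by
  obtain ⟨g, hg⟩ := Orbits.transitive32 v ptP hv ptTP_facts.2.1
  have h : ∀ z : leechLattice, sqNorm (z : GolayPt → ℤ) = 32 →
      dotInt (v : GolayPt → ℤ) (z : GolayPt → ℤ) = -16 → g • z ∈ coTwo4600Cert.set := fun z hz hdz =>
    mem_four.2 ⟨by rw [sqNorm_smul]; exact hz, by rw [← hg, dotInt_smul, dot_comm]; exact hdz⟩
  obtain ⟨k, hk, he⟩ := cert_transitive coTwo4600_base coTwo4600_tree coTwo4600_nodup coTwo4600_bound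
    (h w hw hd) (h w' hw' hd')
  have hkP : k • ptP = ptP := hk (_, -16) (by simp [coTwo4600Cert])
  exact ⟨g⁻¹ * k * g, by rw [mul_smul, mul_smul, hg, hkP, ← hg, inv_smul_smul],
    by rw [mul_smul, mul_smul, he, inv_smul_smul]⟩

theorem transitive_orthogonal {v w w' : leechLattice} (hv : sqNorm (v : GolayPt → ℤ) = 32)
    (hw : sqNorm (w : GolayPt → ℤ) = 32) (hw' : sqNorm (w' : GolayPt → ℤ) = 32)
    (hd : dotInt (v : GolayPt → ℤ) (w : GolayPt → ℤ) = 0)
    (hd' : dotInt (v : GolayPt → ℤ) (w' : GolayPt → ℤ) = 0) :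
    ∃ g : Co0, g • v = v ∧ g • w = w' := by
  obtain ⟨g, hg, hgw⟩ := normal_orth hv hw hd
  obtain ⟨k, hk, hkw⟩ := normal_orth hv hw' hd'
  exact ⟨k⁻¹ * g, by rw [mul_smul, hg, ← hk, inv_smul_smul],
    by rw [mul_smul, hgw, ← hkw, inv_smul_smul]⟩

/-- The minimal vectors of a given scalar product with `v`. -/
def dotSet (v : leechLattice) (d : ℤ) : Set leechLattice :=
  {w | sqNorm (w : GolayPt → ℤ) = 32 ∧ dotInt (v : GolayPt → ℤ) (w : GolayPt → ℤ) = d}

theorem finite_norm {N : ℤ} (n : ℕ) (hn : n ≠ 0)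
    (h : {x : GolayPt → ℤ | x ∈ leechLattice ∧ sqNorm x = N}.ncard = n) :
    {x : leechLattice | sqNorm (x : GolayPt → ℤ) = N}.Finite ∧
      {x : leechLattice | sqNorm (x : GolayPt → ℤ) = N}.ncard = n := by
  have himg : (fun x : leechLattice => (x : GolayPt → ℤ)) ''
      {x : leechLattice | sqNorm (x : GolayPt → ℤ) = N} = {x | x ∈ leechLattice ∧ sqNorm x = N} := by
    ext x
    constructor
    · rintro ⟨y, hy, rfl⟩; exact ⟨y.2, hy⟩
    · rintro ⟨h1, h2⟩; exact ⟨⟨x, h1⟩, h2, rfl⟩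
  have hinj : Set.InjOn (fun x : leechLattice => (x : GolayPt → ℤ))
      {x : leechLattice | sqNorm (x : GolayPt → ℤ) = N} := Subtype.val_injective.injOn
  constructor
  · refine Set.Finite.of_finite_image ?_ hinj
    rw [himg]
    exact Set.finite_of_ncard_ne_zero (by rw [h]; exact hn)
  · rw [← Set.ncard_image_of_injOn hinj, himg, h]

theorem double_count {N d : ℤ} (hN : N = 64 + 2 * d) (n m : ℕ) (v : leechLattice)
    (hv : sqNorm (v : GolayPt → ℤ) = 32) (hn : n ≠ 0)
    (hcN : {x : GolayPt → ℤ | x ∈ leechLattice ∧ sqNorm x = N}.ncard = n)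
    (hm : ∀ t : leechLattice, sqNorm (t : GolayPt → ℤ) = N →
      {p : leechLattice | sqNorm (p : GolayPt → ℤ) = 32 ∧
        dotInt (p : GolayPt → ℤ) (t : GolayPt → ℤ) = 32 + d}.ncard = m) :
    196560 * (dotSet v d).ncard = n * m := by
  classical
  obtain ⟨hfM, hM⟩ := finite_norm 196560 (by norm_num) count_norm32
  obtain ⟨hfS, hS⟩ := finite_norm n hn hcN
  have := hfM.to_subtype
  have := hfS.to_subtype
  let e : (Σ p : {x : leechLattice | sqNorm (x : GolayPt → ℤ) = 32}, dotSet p.1 d) ≃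
      (Σ t : {x : leechLattice | sqNorm (x : GolayPt → ℤ) = N},
        {p : leechLattice | sqNorm (p : GolayPt → ℤ) = 32 ∧
          dotInt (p : GolayPt → ℤ) (t.1 : GolayPt → ℤ) = 32 + d}) :=
    { toFun := fun a =>
        ⟨⟨a.1.1 + a.2.1, by
            show sqNorm ((a.1.1 + a.2.1 : leechLattice) : GolayPt → ℤ) = N
            rw [AddSubgroup.coe_add, sqNorm_add, a.1.2, a.2.2.1, a.2.2.2, hN]; ring⟩,
          ⟨a.1.1, a.1.2, by
            show dotInt (a.1.1 : GolayPt → ℤ) ((a.1.1 + a.2.1 : leechLattice) : GolayPt → ℤ) = _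
            rw [AddSubgroup.coe_add, dot_comm, dot_add_left, dotInt_self, a.1.2,
              dot_comm (a.2.1 : GolayPt → ℤ), a.2.2.2]⟩⟩
      invFun := fun b =>
        ⟨⟨b.2.1, b.2.2.1⟩, ⟨b.1.1 - b.2.1, by
          have h1 : sqNorm (b.1.1 : GolayPt → ℤ) = N := b.1.2
          refine ⟨?_, ?_⟩
          · rw [AddSubgroup.coe_sub, sqNorm_sub, h1, b.2.2.1, dot_comm, b.2.2.2]; omega
          · show dotInt (b.2.1 : GolayPt → ℤ) _ = d
            rw [AddSubgroup.coe_sub, dot_comm, sub_eq_add_neg, dot_add_left, dot_neg_left,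
              dotInt_self, b.2.2.1, dot_comm, b.2.2.2]
            ring⟩⟩
      left_inv := by
        rintro ⟨⟨p, hp⟩, ⟨w, hw⟩⟩
        refine Sigma.ext rfl ?_
        simp
      right_inv := by
        rintro ⟨⟨t, ht⟩, ⟨p, hp⟩⟩
        refine Sigma.subtype_ext ?_ rfl
        exact Subtype.ext (add_sub_cancel p t) }
  have hfib : ∀ p : {x : leechLattice | sqNorm (x : GolayPt → ℤ) = 32},
      Nat.card (dotSet p.1 d) = (dotSet v d).ncard := by
    intro p
    obtain ⟨g, hg⟩ := Orbits.transitive32 p.1 v p.2 hv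
    rw [Nat.card_coe_set_eq]
    refine ncard_eq_of_smul g fun x => ?_
    simp only [dotSet, Set.mem_ofPred_eq]
    rw [sqNorm_smul, ← hg, dotInt_smul]
  have hfinL : ∀ p : {x : leechLattice | sqNorm (x : GolayPt → ℤ) = 32}, Finite (dotSet p.1 d) :=
    fun p => (hfM.subset fun x hx => hx.1).to_subtype
  have hfinR : ∀ t : {x : leechLattice | sqNorm (x : GolayPt → ℤ) = N},
      Finite {p : leechLattice | sqNorm (p : GolayPt → ℤ) = 32 ∧
          dotInt (p : GolayPt → ℤ) (t.1 : GolayPt → ℤ) = 32 + d} :=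
    fun t => (hfM.subset fun x hx => hx.1).to_subtype
  have := Fintype.ofFinite {x : leechLattice | sqNorm (x : GolayPt → ℤ) = 32}
  have := Fintype.ofFinite {x : leechLattice | sqNorm (x : GolayPt → ℤ) = N}
  have h := Nat.card_congr e
  rw [Nat.card_sigma, Nat.card_sigma, Finset.sum_congr rfl (fun p _ => hfib p),
    Finset.sum_congr rfl (fun t _ => (Nat.card_coe_set_eq _).trans (hm t.1 t.2)),
    Finset.sum_const, Finset.sum_const, Finset.card_univ, Finset.card_univ,
    ← Nat.card_eq_fintype_card, ← Nat.card_eq_fintype_card, Nat.card_coe_set_eq, Nat.card_coe_set_eq,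
    hM, hS] at h
  simpa using h

/-- The census of scalar products with a minimal vector. -/
theorem census (v : leechLattice) (hv : sqNorm (v : GolayPt → ℤ) = 32) :
    (dotSet v (-16)).ncard = 4600 ∧ (dotSet v (-8)).ncard = 47104 ∧ (dotSet v 0).ncard = 93150 := by
  refine ⟨?_, ?_, ?_⟩
  · obtain ⟨g, hg⟩ := Orbits.transitive32 v ptP hv ptTP_facts.2.1
    refine (ncard_eq_of_smul g fun x => ?_).trans co2_ncard.2
    simp only [mem_four, dotSet, Set.mem_ofPred_eq]
    rw [sqNorm_smul, ← hg, dotInt_smul, dot_comm]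
  · have := double_count (N := 48) (d := -8) (by norm_num) 16773120 552 v hv (by norm_num)
      count_norm48 fun t ht => by
        obtain ⟨g, hg⟩ := Orbits.transitive48 t ptU ht pt_dots.1
        refine (ncard_eq_of_smul g fun x => ?_).trans pairs_sound.1
        rw [mem_pairs, sqNorm_smul, ← hg, dotInt_smul]; rfl
    omega
  · have := double_count (N := 64) (d := 0) (by norm_num) 398034000 46 v hv (by norm_num)
      count_norm64 fun t ht => by
        obtain ⟨g, hg⟩ := Orbits.transitive64 t ptT ht ptTP_facts.1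
        refine (ncard_eq_of_smul g fun x => ?_).trans co2_ncard.1
        rw [mem_cross, sqNorm_smul, ← hg, dotInt_smul]; rfl
    omega

theorem census_fun (v : GolayPt → ℤ) (hv : v ∈ leechLattice) (hvn : sqNorm v = 32) (d : ℤ) :
    {w : GolayPt → ℤ | w ∈ leechLattice ∧ sqNorm w = 32 ∧ dotInt v w = d}.ncard =
      (dotSet ⟨v, hv⟩ d).ncard := by
  rw [← Set.ncard_image_of_injective (dotSet ⟨v, hv⟩ d) Subtype.val_injective]
  congr 1
  ext x
  constructor
  · rintro ⟨h1, h2, h3⟩; exact ⟨⟨x, h1⟩, ⟨h2, h3⟩, rfl⟩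
  · rintro ⟨y, hy, rfl⟩; exact ⟨y.2, hy⟩

end CfsgLib.Leech.Stab
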