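import Cfsg.Agent.Lib.Leech.Orbits.Classify

/-! Packed vectors and elements of the lattice group given by their columns. -/

set_option autoImplicit false

namespace CfsgLib.Leech.Stab

open Cfsg CfsgLib
open CfsgLib.Leech.Orbits (monoTbl monoFun_tbl)

/-- The coordinates of a function, in bit order. -/
def listOf (f : GolayPt → ℤ) : List ℤ := (List.range 24).map fun i => f (Golay.pt i)

theorem listOf_length (f : GolayPt → ℤ) : (listOf f).length = 24 := by simp [listOf]

theorem getD_listOf (f : GolayPt → ℤ) (p : GolayPt) : (listOf f).getD (Golay.bit p) 0 = f p := by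
  have h := Golay.bit_lt p
  simp [listOf, List.getD_eq_getElem?_getD, List.getElem?_map, List.getElem?_range, h, Golay.pt_bit]

theorem listOf_inj {f g : GolayPt → ℤ} (h : listOf f = listOf g) : f = g := by
  funext p; rw [← getD_listOf f p, h, getD_listOf]

theorem mem_listOf {f : GolayPt → ℤ} {a : ℤ} (h : a ∈ listOf f) : ∃ p, f p = a := by
  simp only [listOf, List.mem_map, List.mem_range] at h
  obtain ⟨i, -, rfl⟩ := h; exact ⟨_, rfl⟩

/-- The scalar product of two lists. -/
def dotZ : List ℤ → List ℤ → ℤ
  | [], _ => 0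
  | a :: l, p => a * p.headD 0 + dotZ l p.tail

theorem dotZ_map {α : Type} (f g : α → ℤ) :
    ∀ l : List α, dotZ (l.map f) (l.map g) = (l.map fun a => f a * g a).sum
  | [] => rfl
  | a :: l => by simp [dotZ, dotZ_map f g l]

theorem sum_range_pt (h : GolayPt → ℤ) :
    ((List.range 24).map fun i => h (Golay.pt i)).sum = ∑ p, h p := by
  rw [show ((List.range 24).map fun i => h (Golay.pt i)).sum = ∑ i ∈ Finset.range 24, h (Golay.pt i)
    from rfl]
  exact Finset.sum_nbij' Golay.pt Golay.bit (fun i _ => Finset.mem_univ _)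
    (fun p _ => Finset.mem_range.2 (Golay.bit_lt p))
    (fun i hi => Golay.bit_pt (Finset.mem_range.1 hi)) (fun p _ => Golay.pt_bit p) (fun i _ => rfl)

theorem dotZ_listOf (f g : GolayPt → ℤ) : dotZ (listOf f) (listOf g) = dotInt f g := by
  rw [listOf, listOf, dotZ_map]; exact sum_range_pt fun p => f p * g p

theorem dotInt_self (f : GolayPt → ℤ) : dotInt f f = sqNorm f := by
  simp [dotInt, sqNorm, pow_two]

/-- Evaluation of a list at 32. -/
def lin : List ℤ → ℤ
  | [] => 0
  | a :: l => a + 32 * lin l

theorem lin_map_add {α : Type} (f g : α → ℤ) :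
    ∀ l : List α, lin (l.map (f + g)) = lin (l.map f) + lin (l.map g)
  | [] => rfl
  | a :: l => by simp only [List.map_cons, lin, lin_map_add f g l, Pi.add_apply]; ring

/-- The packed value of a vector, as an additive map. -/
def linHom : (GolayPt → ℤ) →+ ℤ :=
  AddMonoidHom.mk' (fun f => lin (listOf f)) fun f g => lin_map_add _ _ _

theorem linHom_apply (f : GolayPt → ℤ) : linHom f = lin (listOf f) := rfl

/-- The offset of a packed vector. -/
def off : ℕ → ℤ
  | 0 => 0
  | k + 1 => 16 + 32 * off k

/-- The coordinates in a packed vector. -/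
def dig : ℕ → ℕ → List ℤ
  | 0, _ => []
  | k + 1, n => (((n % 32 : ℕ) : ℤ) - 16) :: dig k (n / 32)

theorem dig_of_lin : ∀ (l : List ℤ) (n : ℕ), (∀ a ∈ l, -16 ≤ a ∧ a ≤ 15) →
    lin l + off l.length = (n : ℤ) → dig l.length n = l
  | [], _, _, _ => rfl
  | a :: l, n, hb, h => by
    obtain ⟨h1, h2⟩ := hb a List.mem_cons_self
    simp only [lin, List.length_cons, off] at h
    have e2 : lin l + off l.length = ((n / 32 : ℕ) : ℤ) := by omega
    rw [List.length_cons, dig, dig_of_lin l _ (fun b hb' => hb b (List.mem_cons_of_mem _ hb')) e2]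
    congr 1
    omega

/-- The value of a packed vector. -/
def colZ (n : ℕ) : ℤ := (n : ℤ) - off 24

/-- The packed vector `n` represents `f`. -/
def Rep (f : GolayPt → ℤ) (n : ℕ) : Prop := lin (listOf f) = colZ n

theorem dig_of_rep {f : GolayPt → ℤ} {n : ℕ} (h : Rep f n) (hf : sqNorm f ≤ 80) :
    dig 24 n = listOf f := by
  have hb : ∀ a ∈ listOf f, -16 ≤ a ∧ a ≤ 15 := by
    intro a ha
    obtain ⟨p, rfl⟩ := mem_listOf ha
    have h1 : f p ^ 2 ≤ sqNorm f :=
      Finset.single_le_sum (f := fun j => f j ^ 2) (fun j _ => sq_nonneg _) (Finset.mem_univ p)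
    constructor <;> nlinarith
  have := dig_of_lin (listOf f) n hb (by rw [listOf_length, h, colZ]; ring)
  rwa [listOf_length] at this

theorem rep_inj {f g : GolayPt → ℤ} {n : ℕ} (hf : Rep f n) (hg : Rep g n)
    (hfn : sqNorm f ≤ 80) (hgn : sqNorm g ≤ 80) : f = g :=
  listOf_inj ((dig_of_rep hf hfn).symm.trans (dig_of_rep hg hgn))

/-- Eight times a unit vector. -/
def e8 (p : GolayPt) : GolayPt → ℤ := fun q => if Golay.bit q = Golay.bit p then 8 else 0

theorem e8_checks : ((List.range 24).all fun i => leechB (e8 (Golay.pt i))) = true := by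
  decide +kernel

theorem e8_mem (p : GolayPt) : e8 p ∈ leechLattice := by
  have := List.all_eq_true.1 e8_checks (Golay.bit p) (List.mem_range.2 (Golay.bit_lt p))
  rw [Golay.pt_bit] at this
  exact mem_of_leechB this

/-- Eight times a unit vector, in the lattice. -/
def e8L (p : GolayPt) : leechLattice := ⟨e8 p, e8_mem p⟩

theorem sqNorm_e8 (p : GolayPt) : sqNorm (e8 p) = 64 := by
  unfold sqNorm e8
  rw [Finset.sum_eq_single p (fun q _ hq => by
    rw [if_neg (fun h => hq (Golay.bit_injective h))]; rfl) (fun h => absurd (Finset.mem_univ p) h)]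
  simp

theorem eight_smul_eq (v : leechLattice) :
    (8 : ℤ) • v = ∑ p, (v : GolayPt → ℤ) p • e8L p := by
  refine Subtype.ext (funext fun q => ?_)
  simp only [AddSubgroup.coe_zsmul, AddSubgroup.val_finsetSum, Finset.sum_apply, Pi.smul_apply,
    smul_eq_mul, e8L, e8]
  rw [Finset.sum_eq_single q (fun p _ hp => by
    rw [if_neg (fun h => hp (Golay.bit_injective h).symm), mul_zero])
    (fun h => absurd (Finset.mem_univ q) h), if_pos rfl]
  ring

/-- The packed image of `v` under `g`. -/
def imgHom (g : Co0) : leechLattice →+ ℤ :=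
  linHom.comp ((leechLattice).subtype.comp (toAddHom g))

theorem imgHom_apply (g : Co0) (v : leechLattice) :
    imgHom g v = lin (listOf ((g • v : leechLattice) : GolayPt → ℤ)) := rfl

/-- The columns of an element. -/
def Valid (g : Co0) (cols : List ℕ) : Prop :=
  cols.map colZ = listOf fun p => lin (listOf ((g • e8L p : leechLattice) : GolayPt → ℤ))

/-- Eight times the packed image, from the columns. -/
def applyC (cols : List ℕ) (n : ℕ) : ℤ := dotZ (dig 24 n) (cols.map colZ)

theorem applyC_eq {g : Co0} {cols : List ℕ} (hg : Valid g cols) {v : leechLattice} {n : ℕ}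
    (hn : Rep (v : GolayPt → ℤ) n) (hv : sqNorm (v : GolayPt → ℤ) ≤ 80) :
    applyC cols n = 8 * lin (listOf ((g • v : leechLattice) : GolayPt → ℤ)) := by
  rw [applyC, dig_of_rep hn hv, hg, dotZ_listOf, ← imgHom_apply]
  rw [show (8 : ℤ) * imgHom g v = imgHom g ((8 : ℤ) • v) by rw [map_zsmul, smul_eq_mul],
    eight_smul_eq, map_sum]
  refine Finset.sum_congr rfl fun p _ => ?_
  rw [map_zsmul, smul_eq_mul]; rfl

theorem rep_smul {g : Co0} {cols : List ℕ} (hg : Valid g cols) {v : leechLattice} {n m : ℕ}
    (hn : Rep (v : GolayPt → ℤ) n) (hv : sqNorm (v : GolayPt → ℤ) ≤ 80)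
    (h : applyC cols n = 8 * colZ m) : Rep ((g • v : leechLattice) : GolayPt → ℤ) m := by
  rw [applyC_eq hg hn hv] at h
  unfold Rep; omega

/-- The sum of fields times columns. -/
def sumFC : List ℕ → ℕ → ℕ
  | [], _ => 0
  | c :: cs, n => Nat.add (Nat.mul (Nat.land n 31) c) (sumFC cs (Nat.shiftRight n 5))

/-- The sum of fields. -/
def sumF : List ℕ → ℕ → ℕ
  | [], _ => 0
  | _ :: cs, n => Nat.add (Nat.land n 31) (sumF cs (Nat.shiftRight n 5))

/-- The offset as a natural number. -/
def offN : ℕ := 686053159114795289240674611757597200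

theorem offN_eq : off 24 = (offN : ℤ) := by decide +kernel

/-- A fast check of `applyC cols n = 8 * colZ m`. -/
def applyB (cols : List ℕ) (n m : ℕ) : Bool :=
  Nat.beq cols.length 24 &&
    Nat.beq (Nat.add (sumFC cols n) (Nat.mul 392 offN))
      (Nat.add (Nat.add (Nat.mul 8 m) (Nat.mul offN (sumF cols n))) (Nat.mul 16 cols.sum))

theorem land_31 (n : ℕ) : Nat.land n 31 = n % 32 := Nat.and_two_pow_sub_one_eq_mod n 5

theorem shiftRight_five (n : ℕ) : Nat.shiftRight n 5 = n / 32 := Nat.shiftRight_eq_div_pow n 5

theorem dotZ_dig : ∀ (cols : List ℕ) (n : ℕ),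
    dotZ (dig cols.length n) (cols.map colZ) = (sumFC cols n : ℤ) - off 24 * (sumF cols n : ℕ) -
      16 * (cols.sum : ℕ) + 16 * off 24 * cols.length := by
  intro cols
  induction cols with
  | nil => intro n; simp [dig, dotZ, sumFC, sumF]
  | cons c cs ih =>
    intro n
    simp only [List.length_cons, dig, List.map_cons, dotZ, List.headD_cons, List.tail_cons, ih,
      sumFC, sumF, land_31, shiftRight_five, List.sum_cons, colZ]
    simp only [Nat.add_eq, Nat.mul_eq]
    push_cast
    ring

theorem applyC_of_applyB {cols : List ℕ} {n m : ℕ} (h : applyB cols n m = true) :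
    applyC cols n = 8 * colZ m := by
  simp only [applyB, Bool.and_eq_true, Nat.beq_eq] at h
  obtain ⟨hlen, he⟩ := h
  have he' : (sumFC cols n : ℤ) + 392 * (offN : ℤ) =
      8 * (m : ℤ) + (offN : ℤ) * (sumF cols n : ℕ) + 16 * (cols.sum : ℕ) := by
    have := congrArg (fun a : ℕ => (a : ℤ)) he
    simpa [Nat.add_eq, Nat.mul_eq] using this
  have := dotZ_dig cols n
  rw [hlen] at this
  rw [applyC, this, colZ, offN_eq]
  simp only [Nat.cast_ofNat]
  linarith

/-- A line of a straight line program. -/
inductive Op where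
  | xi : Op
  | mono : ℕ → ℕ → Op
  | prod : ℕ → ℕ → Op

/-- The columns at a line. -/
def colsAt (s : List (Op × List ℕ)) (k : ℕ) : List ℕ := (s.getD k (Op.xi, [])).2

/-- The check of a line. -/
def opB (s : List (Op × List ℕ)) (k : ℕ) : Bool :=
  match (s.getD k (Op.xi, [])).1 with
  | .xi => (colsAt s k).map colZ == listOf fun p => lin (listOf (xiFun (e8 p)))
  | .mono T cx => Trans.okT T &&
      (colsAt s k).map colZ == listOf fun p => lin (listOf (monoTbl T cx (e8 p)))
  | .prod a b => Nat.blt a k && Nat.blt b k &&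
      (colsAt s k).map (fun c => 8 * colZ c) == (colsAt s b).map (applyC (colsAt s a))

/-- The check of a straight line program. -/
def slpB (s : List (Op × List ℕ)) : Bool := (List.range s.length).all (opB s)

theorem slp_sound {s : List (Op × List ℕ)} (h : slpB s = true) :
    ∀ k < s.length, ∃ g : Co0, Valid g (colsAt s k) := by
  intro k
  induction k using Nat.strong_induction_on with
  | _ k ih =>
    intro hk
    have hc := List.all_eq_true.1 h k (List.mem_range.2 hk)
    unfold opB at hc
    split at hc
    · exact ⟨xiEl, eq_of_beq hc⟩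
    · rename_i T cx _
      rw [Bool.and_eq_true] at hc
      refine ⟨monoEl _ (Trans.tblPerm_mem hc.1) _ (Golay.toWord_comb_mem cx), ?_⟩
      refine (eq_of_beq hc.2).trans (congrArg listOf (funext fun p => ?_))
      rw [coe_monoEl_smul, monoFun_tbl hc.1]
      rfl
    · rename_i a b _
      simp only [Bool.and_eq_true, Nat.blt_eq] at hc
      obtain ⟨⟨ha, hb⟩, he⟩ := hc
      obtain ⟨ga, hga⟩ := ih a ha (by omega)
      obtain ⟨gb, hgb⟩ := ih b hb (by omega)
      refine ⟨ga * gb, ?_⟩
      have hlen : (colsAt s b).length = 24 := by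
        have := congrArg List.length hgb; simpa [listOf_length] using this
      have he' := eq_of_beq he
      refine List.ext_getElem ?_ fun i h1 h2 => ?_
      · have := congrArg List.length he'
        simp only [List.length_map] at this
        simp [listOf_length, this, hlen]
      · have hi : i < (colsAt s b).length := by
          have := congrArg List.length he'
          simp only [List.length_map] at this h1
          omega
        have e1 : (8 : ℤ) * colZ ((colsAt s k)[i]'(by simpa using h1)) =
            applyC (colsAt s a) ((colsAt s b)[i]'hi) := by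
          have h3 := List.getElem_of_eq he' (i := i) (by simpa using h1)
          simpa using h3
        have e2 : Rep ((gb • e8L (Golay.pt i) : leechLattice) : GolayPt → ℤ) ((colsAt s b)[i]'hi) := by
          have h3 := List.getElem_of_eq hgb (i := i) (by simpa using hi)
          simp only [List.getElem_map, listOf, List.getElem_range] at h3
          exact h3.symm
        have e3 := applyC_eq hga e2 (by rw [sqNorm_smul]; simp [e8L, sqNorm_e8])
        simp only [List.getElem_map, listOf, List.getElem_range]
        rw [mul_smul]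
        unfold listOf at e3
        omega

end CfsgLib.Leech.Stab
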