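import Cfsg.Agent.Lib.Leech.Stab.Code

/-! A covering list of the minimal vectors with prescribed scalar products. -/

set_option autoImplicit false

namespace CfsgLib.Leech.Stab

open Cfsg CfsgLib
open CfsgLib.Leech.Orbits (vecOf absSet valPts)

/-- Remaining targets with remaining coordinates. -/
abbrev St := List (ℤ × List ℤ)

/-- Fix the next coordinate. -/
def stepSt (v : ℤ) (st : St) : St := st.map fun e => (e.1 - v * e.2.headD 0, e.2.tail)

/-- All targets met. -/
def doneSt (st : St) : Bool := st.all fun e => e.1 == 0

theorem stepSt_ok {v : ℤ} {l : List ℤ} {st : St} (h : ∀ e ∈ st, e.1 = dotZ (v :: l) e.2) :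
    ∀ e ∈ stepSt v st, e.1 = dotZ l e.2 := by
  intro e he
  simp only [stepSt, List.mem_map] at he
  obtain ⟨e', he', rfl⟩ := he
  have := h e' he'
  simp only [dotZ] at this
  simp only; omega

theorem doneSt_ok {st : St} (h : ∀ e ∈ st, e.1 = dotZ [] e.2) : doneSt st = true := by
  simp only [doneSt, List.all_eq_true, beq_iff_eq]
  exact fun e he => h e he

/-! ### Two entries of absolute value four -/

/-- Lists with `k` entries `±4` and the others zero. -/
def fours : ℕ → ℕ → St → List (List ℤ)
  | 0, k, st => bif k == 0 && doneSt st then [[]] else []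
  | n + 1, 0, st => (fours n 0 (stepSt 0 st)).map (0 :: ·)
  | n + 1, k + 1, st => (fours n (k + 1) (stepSt 0 st)).map (0 :: ·) ++
      (fours n k (stepSt 4 st)).map (4 :: ·) ++ (fours n k (stepSt (-4) st)).map (-4 :: ·)

theorem mem_fours : ∀ (l : List ℤ) (k : ℕ) (st : St), (∀ a ∈ l, a = 0 ∨ a = 4 ∨ a = -4) →
    dotZ l l = 16 * (k : ℤ) → (∀ e ∈ st, e.1 = dotZ l e.2) → l ∈ fours l.length k st := by
  have hnn : ∀ l : List ℤ, 0 ≤ dotZ l l := by
    intro l
    induction l with
    | nil => simp [dotZ]
    | cons a l ih => simp only [dotZ, List.headD_cons, List.tail_cons]; nlinarith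
  intro l
  induction l with
  | nil =>
    intro k st _ hk h
    simp only [dotZ] at hk
    obtain rfl : k = 0 := by omega
    simp [fours, doneSt_ok h]
  | cons a l ih =>
    intro k st hv hk h
    have hv' : ∀ b ∈ l, b = 0 ∨ b = 4 ∨ b = -4 := fun b hb => hv b (List.mem_cons_of_mem _ hb)
    have hs := stepSt_ok h
    simp only [dotZ, List.headD_cons, List.tail_cons] at hk
    have := hnn l
    rcases hv a List.mem_cons_self with rfl | rfl | rfl
    · have hm := ih k _ hv' (by omega) hs
      cases k <;> simp [fours, hm]
    all_goals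
      obtain ⟨j, rfl⟩ : ∃ j, k = j + 1 := ⟨k - 1, by omega⟩
      have hm := ih j _ hv' (by omega) hs
      simp [fours, hm]

/-! ### Entries two on an octad -/

/-- The entries at the bits of a mask. -/
def restrict : ℕ → List ℤ → List ℤ
  | _, [] => []
  | M, a :: l => bif M % 2 == 1 then a :: restrict (M / 2) l else restrict (M / 2) l

/-- Entries placed at the bits of a mask. -/
def expand : ℕ → ℕ → List ℤ → List ℤ
  | 0, _, _ => []
  | n + 1, M, r => bif M % 2 == 1 then r.headD 0 :: expand n (M / 2) r.tail
      else 0 :: expand n (M / 2) r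

/-- Entries `±2` on the mask and zero elsewhere. -/
def TwoOn : ℕ → List ℤ → Prop
  | _, [] => True
  | M, a :: l => (if M % 2 = 1 then a = 2 ∨ a = -2 else a = 0) ∧ TwoOn (M / 2) l

theorem twoOn_facts : ∀ (l : List ℤ) (M : ℕ), TwoOn M l →
    expand l.length M (restrict M l) = l ∧ (restrict M l).sum = l.sum ∧
      (restrict M l).length = Golay.pc l.length M ∧ (∀ a ∈ restrict M l, a = 2 ∨ a = -2) ∧
      ∀ p : List ℤ, p.length = l.length → dotZ (restrict M l) (restrict M p) = dotZ l p := by
  intro l
  induction l with
  | nil => intro M _; simp [restrict, expand, Golay.pc, dotZ]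
  | cons a l ih =>
    intro M ⟨ha, hl⟩
    obtain ⟨h1, h2, h3, h4, h5⟩ := ih (M / 2) hl
    by_cases hM : M % 2 = 1
    · rw [if_pos hM] at ha
      refine ⟨?_, ?_, ?_, ?_, ?_⟩
      · simp [restrict, expand, hM, h1]
      · simp [restrict, hM, h2]
      · simp [restrict, hM, h3, Golay.pc]; omega
      · simp only [restrict, hM, beq_self_eq_true, cond_true, List.mem_cons]
        rintro b (rfl | hb)
        · exact ha
        · exact h4 b hb
      · rintro (_ | ⟨b, p⟩) hp
        · simp at hp
        · simp [restrict, hM, dotZ, h5 p (by simpa using hp)]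
    · rw [if_neg hM] at ha
      subst ha
      have hM : (M % 2 == 1) = false := by simpa using hM
      have hM0 : M % 2 = 0 := by simp at hM; omega
      refine ⟨?_, ?_, ?_, ?_, ?_⟩
      · simp [restrict, expand, hM, h1]
      · simp [restrict, hM, h2]
      · simp [restrict, hM, hM0, h3, Golay.pc]
      · simpa [restrict, hM] using h4
      · rintro (_ | ⟨b, p⟩) hp
        · simp at hp
        · simp [restrict, hM, dotZ, h5 p (by simpa using hp)]

theorem twoOn_map : ∀ (k M : ℕ) (f : ℕ → ℤ),
    (∀ i < k, if M.testBit i = true then f i = 2 ∨ f i = -2 else f i = 0) →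
    TwoOn M ((List.range k).map f) := by
  intro k
  induction k with
  | zero => intro M f _; trivial
  | succ k ih =>
    intro M f h
    rw [List.range_succ_eq_map, List.map_cons, List.map_map]
    refine ⟨?_, ih (M / 2) _ fun i hi => ?_⟩
    · have := h 0 (by omega)
      simpa [Nat.testBit_zero] using this
    · have := h (i + 1) (by omega)
      rwa [Nat.testBit_succ] at this

/-- Sign choices of eight entries `±2`. -/
def signs : ℕ → ℤ → St → List (List ℤ)
  | 0, s, st => bif doneSt st && s % 8 == 0 then [[]] else []
  | n + 1, s, st => (signs n (s + 2) (stepSt 2 st)).map (2 :: ·) ++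
      (signs n (s + -2) (stepSt (-2) st)).map (-2 :: ·)

theorem mem_signs : ∀ (l : List ℤ) (s : ℤ) (st : St), (∀ a ∈ l, a = 2 ∨ a = -2) →
    (s + l.sum) % 8 = 0 → (∀ e ∈ st, e.1 = dotZ l e.2) → l ∈ signs l.length s st := by
  intro l
  induction l with
  | nil =>
    intro s st _ hs h
    simp only [List.sum_nil, add_zero] at hs
    simp [signs, doneSt_ok h, hs]
  | cons a l ih =>
    intro s st hv hs h
    have hm := ih (s + a) _ (fun b hb => hv b (List.mem_cons_of_mem _ hb))
      (by rw [add_assoc]; exact hs) (stepSt_ok h)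
    rcases hv a List.mem_cons_self with rfl | rfl <;> simp [signs, hm]

/-! ### Odd vectors -/

/-- Signs given by a mask. -/
def sgnL : ℕ → ℕ → List ℤ
  | 0, _ => []
  | n + 1, M => (bif M % 2 == 1 then -1 else 1) :: sgnL n (M / 2)

theorem sgnL_eq : ∀ n M : ℕ,
    sgnL n M = (List.range n).map fun i => bif M.testBit i then -1 else 1 := by
  intro n
  induction n with
  | zero => intro M; rfl
  | succ n ih =>
    intro M
    rw [sgnL, ih, List.range_succ_eq_map, List.map_cons, List.map_map]
    congr 1
    · rcases Nat.mod_two_eq_zero_or_one M with h | h <;> simp [Nat.testBit_zero, h]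
    · exact List.map_congr_left fun i _ => by simp [Nat.testBit_succ]

/-- The positions at which all targets are met. -/
def scanQ : List ℤ → St → List ℕ
  | [], _ => []
  | b :: l, st => (bif st.all (fun e => e.1 == -4 * b * e.2.headD 0) then [0] else []) ++
      (scanQ l (st.map fun e => (e.1, e.2.tail))).map (· + 1)

theorem mem_scanQ : ∀ (l : List ℤ) (q : ℕ) (st : St), q < l.length →
    (∀ e ∈ st, e.1 = -4 * l.getD q 0 * e.2.getD q 0) → q ∈ scanQ l st := by
  intro l
  induction l with
  | nil => intro q st hq; simp at hq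
  | cons b l ih =>
    intro q st hq h
    rcases q with _ | q
    · have : st.all (fun e => e.1 == -4 * b * e.2.headD 0) = true := by
        simp only [List.all_eq_true, beq_iff_eq]
        intro e he
        rw [h e he]
        cases e.2 <;> simp
      simp only [scanQ, this, cond_true]
      simp
    · have hm : q ∈ scanQ l (st.map fun e => (e.1, e.2.tail)) := by
        refine ih q _ (by simpa using hq) fun e he => ?_
        simp only [List.mem_map] at he
        obtain ⟨e', he', rfl⟩ := he
        rw [h e' he']
        rcases e'.2 with _ | ⟨c, t⟩ <;> simp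
      simp [scanQ, hm]

/-- The odd vector of a code word and a position. -/
def oddFun (M q : ℕ) : GolayPt → ℤ := fun p =>
  (bif M.testBit (Golay.bit p) then -1 else 1) * (if Golay.bit p = q then -3 else 1)

/-- The covering list. -/
def cands (st : St) : List (GolayPt → ℤ) :=
  (fours 24 2 st).map vecOf ++
    (((List.range 4096).filter fun cx => Nat.beq (Golay.pc24 (Golay.comb cx)) 8).flatMap fun cx =>
      (signs 8 0 (st.map fun e => (e.1, restrict (Golay.comb cx) e.2))).map fun r =>
        vecOf (expand 24 (Golay.comb cx) r)) ++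
    (List.range 4096).flatMap fun cx =>
      (scanQ (sgnL 24 (Golay.comb cx))
        (st.map fun e => (e.1 - dotZ (sgnL 24 (Golay.comb cx)) e.2, e.2))).map
          (oddFun (Golay.comb cx))

theorem vecOf_listOf (x : GolayPt → ℤ) : vecOf (listOf x) = x :=
  funext fun p => getD_listOf x p

/-- The targets of a vector. -/
def Targets (x : GolayPt → ℤ) (st : St) : Prop :=
  ∀ e ∈ st, ∃ p : GolayPt → ℤ, e.2 = listOf p ∧ dotInt x p = e.1

theorem targets_dot {x : GolayPt → ℤ} {st : St} (h : Targets x st) :
    ∀ e ∈ st, e.1 = dotZ (listOf x) e.2 := by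
  intro e he
  obtain ⟨p, hp, hd⟩ := h e he
  rw [hp, dotZ_listOf, hd]

theorem mem_cands {x : GolayPt → ℤ} (hx : x ∈ leechLattice) (hN : sqNorm x = 32) {st : St}
    (h : Targets x st) : x ∈ cands st := by
  have hd := targets_dot h
  simp only [cands, List.mem_append, List.mem_map, List.mem_flatMap, List.mem_filter]
  rcases Int.emod_two_eq_zero_or_one (x none) with hp | hp
  · have he : ∀ p, x p % 2 = 0 := fun p => ((mem_leech_iff.1 hx).1 p).trans hp
    have hle : sqNorm x ≤ 80 := by omega
    have hn := Orbits.even_norm_eq hle he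
    have h6 := Finset.card_le_card (Orbits.absSix_subset hle he)
    have c6 : absSet x 6 = ∅ := Finset.card_eq_zero.1 (by
      rcases Orbits.bitSet_card_cases hx with h | h | h | h | h <;> omega)
    have c8 : absSet x 8 = ∅ := Finset.card_eq_zero.1 (by omega)
    have hval : ∀ p, |x p| = if |x p| = 4 then 4 else if x p / 2 % 2 = 1 then 2 else 0 := by
      intro p
      have k6 : ¬|x p| = 6 := fun hh => by
        have : p ∈ absSet x 6 := Finset.mem_filter.2 ⟨Finset.mem_univ p, hh⟩
        rw [c6] at this; simp at this
      have k8 : ¬|x p| = 8 := fun hh => by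
        have : p ∈ absSet x 8 := Finset.mem_filter.2 ⟨Finset.mem_univ p, hh⟩
        rw [c8] at this; simp at this
      have := (Orbits.even_value hle he p).1
      rwa [if_neg k8, if_neg k6] at this
    rw [c6, c8] at hn
    simp only [Finset.card_empty] at hn
    rcases Orbits.bitSet_card_cases hx with hb | hb | hb | hb | hb
    · refine Or.inl (Or.inl ⟨listOf x, ?_, vecOf_listOf x⟩)
      have hall : ∀ a ∈ listOf x, a = 0 ∨ a = 4 ∨ a = -4 := by
        intro a ha
        obtain ⟨p, rfl⟩ := mem_listOf ha
        have hnb : ¬ x p / 2 % 2 = 1 := fun hh => by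
          have := Orbits.mem_bitSet.2 hh
          rw [Finset.card_eq_zero.1 hb] at this; simp at this
        have := hval p
        rw [if_neg hnb] at this
        split at this
        · rcases abs_choice (x p) with e | e <;> omega
        · exact Or.inl (abs_eq_zero.1 this)
      have := mem_fours (listOf x) 2 st hall (by rw [dotZ_listOf, dotInt_self, hN]; rfl) hd
      rwa [listOf_length] at this
    · refine Or.inl (Or.inr ?_)
      have h4 : absSet x 4 = ∅ := Finset.card_eq_zero.1 (by omega)
      obtain ⟨cx, hcx, hc⟩ : ∃ cx < 2 ^ 12, Golay.toWord (Golay.comb cx) = bits x :=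
        Golay.mem_golay_iff.1 (mem_leech_iff.1 hx).2.1
      have hbit : ∀ p, (Golay.comb cx).testBit (Golay.bit p) = true ↔ x p / 2 % 2 = 1 := by
        intro p
        rw [← Golay.toWord_ne_zero, hc, ← Orbits.mem_bitSet]
        simp [Orbits.bitSet, support₂]
      have htwo : TwoOn (Golay.comb cx) (listOf x) := by
        refine twoOn_map 24 _ _ fun i hi => ?_
        have hv := hval (Golay.pt i)
        have k4 : ¬|x (Golay.pt i)| = 4 := fun hh => by
          have : Golay.pt i ∈ absSet x 4 := Finset.mem_filter.2 ⟨Finset.mem_univ _, hh⟩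
          rw [h4] at this; simp at this
        rw [if_neg k4] at hv
        have hb' := hbit (Golay.pt i)
        rw [Golay.bit_pt hi] at hb'
        split
        next ht =>
          rw [if_pos (hb'.1 ht)] at hv
          rcases abs_choice (x (Golay.pt i)) with e | e <;> omega
        next ht =>
          rw [if_neg (fun hh => ht (hb'.2 hh))] at hv
          exact abs_eq_zero.1 hv
      obtain ⟨f1, f2, f3, f4, f5⟩ := twoOn_facts _ _ htwo
      rw [listOf_length] at f1 f3
      have hw : Golay.pc 24 (Golay.comb cx) = 8 := by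
        rw [← Golay.card_toSet, ← Golay.support₂_toWord, hc]; exact hb
      refine ⟨cx, ⟨List.mem_range.2 hcx, by rw [Golay.pc24_eq, hw]; rfl⟩, restrict (Golay.comb cx) (listOf x),
        ?_, by rw [f1, vecOf_listOf]⟩
      have hs : (0 + (restrict (Golay.comb cx) (listOf x)).sum) % 8 = 0 := by
        rw [zero_add, f2, listOf, sum_range_pt]
        have := (mem_leech_iff.1 hx).2.2
        omega
      have := mem_signs _ 0 (st.map fun e => (e.1, restrict (Golay.comb cx) e.2)) f4 hs (by
        intro e he
        simp only [List.mem_map] at he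
        obtain ⟨e', he', rfl⟩ := he
        obtain ⟨p, hp', -⟩ := h e' he'
        show e'.1 = dotZ _ (restrict _ e'.2)
        rw [f5 e'.2 (by rw [hp', listOf_length, listOf_length]), hd e' he'])
      rwa [f3, hw] at this
    all_goals omega
  · refine Or.inr ?_
    obtain ⟨cx, hcx, hc⟩ : ∃ cx < 2 ^ 12, Golay.toWord (Golay.comb cx) = bits x :=
      Golay.mem_golay_iff.1 (mem_leech_iff.1 hx).2.1
    set y := monoFun 1 (bits x) x with hy
    have hn : sqNorm y = sqNorm x := by
      refine Finset.sum_congr rfl fun i _ => ?_
      simp only [hy, monoFun, Equiv.Perm.one_apply]; split <;> ring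
    have hxy : ∀ p, x p = (bif (Golay.comb cx).testBit (Golay.bit p) then -1 else 1) * y p := by
      intro p
      simp only [hy, monoFun, Equiv.Perm.one_apply, ← hc, Golay.toWord]
      rcases Bool.eq_false_or_eq_true ((Golay.comb cx).testBit (Golay.bit p)) with hb | hb <;>
        simp [hb]
    have h4 : ∀ p, y p % 4 = 1 := by
      intro p
      have := (mem_leech_iff.1 hx).1 p
      have hbp : bits x p = ((x p / 2 : ℤ) : ZMod 2) := rfl
      simp only [hy, monoFun, Equiv.Perm.one_apply]
      rcases zmod_cast_even_or_odd (x p / 2) with ⟨h, h'⟩ | ⟨h, h'⟩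
      · rw [if_neg (by rw [hbp, h']; decide)]; omega
      · rw [if_pos (hbp.trans h')]; omega
    have hle : sqNorm y ≤ 80 := by omega
    have hcard := Orbits.odd_norm_eq hle h4
    have c3 : (valPts y (-3)).card = 1 := by omega
    obtain ⟨q, hq⟩ := Finset.card_eq_one.1 c3
    have hyv : ∀ p, y p = if Golay.bit p = Golay.bit q then -3 else 1 := by
      intro p
      have k5 : ¬ y p = 5 := fun hh => by
        have : p ∈ valPts y 5 := Finset.mem_filter.2 ⟨Finset.mem_univ _, hh⟩
        rw [Finset.card_eq_zero.1 (by omega : (valPts y 5).card = 0)] at this; simp at this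
      have k7 : ¬ y p = -7 := fun hh => by
        have : p ∈ valPts y (-7) := Finset.mem_filter.2 ⟨Finset.mem_univ _, hh⟩
        rw [Finset.card_eq_zero.1 (by omega : (valPts y (-7)).card = 0)] at this; simp at this
      have hv := (Orbits.odd_value hle h4 p).1
      rw [if_neg k7, if_neg k5] at hv
      have hmem : y p = -3 ↔ p = q := by
        have hm : p ∈ valPts y (-3) ↔ p = q := by rw [hq, Finset.mem_singleton]
        simpa [valPts] using hm
      rw [hv]
      by_cases hh : y p = -3
      · rw [if_pos hh, if_pos (congrArg Golay.bit (hmem.1 hh))]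
      · rw [if_neg hh, if_neg fun hb => hh (hmem.2 (Golay.bit_injective hb))]
    refine ⟨cx, List.mem_range.2 hcx, Golay.bit q, ?_, funext fun p => by rw [oddFun, hxy, hyv]⟩
    have hs : sgnL 24 (Golay.comb cx) =
        listOf fun p => bif (Golay.comb cx).testBit (Golay.bit p) then -1 else 1 := by
      rw [sgnL_eq, listOf]
      exact List.map_congr_left fun i hi => by rw [Golay.bit_pt (List.mem_range.1 hi)]
    refine mem_scanQ _ _ _ (by rw [hs, listOf_length]; exact Golay.bit_lt q) ?_
    intro e he
    simp only [List.mem_map] at he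
    obtain ⟨e', he', rfl⟩ := he
    obtain ⟨p, hp', hdot⟩ := h e' he'
    simp only [hs, hp', getD_listOf, dotZ_listOf]
    rw [← hdot, dotInt, dotInt, ← Finset.sum_sub_distrib, Finset.sum_eq_single q
      (fun r _ hr => by
        rw [hxy r, hyv r, if_neg fun hb => hr (Golay.bit_injective hb)]; ring)
      (fun hh => absurd (Finset.mem_univ q) hh)]
    rw [hxy q, hyv q, if_pos rfl]; ring

theorem ncard_le {st : St} {W : Set (GolayPt → ℤ)}
    (h : ∀ x ∈ W, x ∈ leechLattice ∧ sqNorm x = 32 ∧ Targets x st) :
    W.Finite ∧ W.ncard ≤ (cands st).length := by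
  classical
  have hsub : W ⊆ ↑(cands st).toFinset := fun x hx => by
    obtain ⟨h1, h2, h3⟩ := h x hx
    simpa using mem_cands h1 h2 h3
  refine ⟨(Finset.finite_toSet _).subset hsub, ?_⟩
  calc W.ncard ≤ (↑(cands st).toFinset : Set (GolayPt → ℤ)).ncard :=
        Set.ncard_le_ncard hsub (Finset.finite_toSet _)
    _ = (cands st).toFinset.card := Set.ncard_coe_finset _
    _ ≤ _ := List.toFinset_card_le _

end CfsgLib.Leech.Stab
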