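import Cfsg.Agent.Lib.Leech.Stab.Enum

/-! Fast evaluation of the length of the covering list for one fixed vector. -/

set_option autoImplicit false

namespace CfsgLib.Leech.Stab

open Cfsg CfsgLib

/-- Entries at the bits of a mask. -/
def sel {α : Type} : ℕ → List α → List α
  | _, [] => []
  | M, a :: l => bif Nat.beq (Nat.land M 1) 1 then a :: sel (Nat.div M 2) l
      else sel (Nat.div M 2) l

/-- The number of admissible sign choices. -/
def cntSigns (T : ℕ) : List (ℕ × ℕ) → ℕ → ℕ → ℕ
  | [], s, acc => bif Nat.beq (Nat.mod s 8) 0 && Nat.beq acc T then 1 else 0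
  | (u, w) :: r, s, acc =>
    Nat.add (cntSigns T r (Nat.add s 2) (Nat.add acc u)) (cntSigns T r (Nat.add s 6) (Nat.add acc w))

/-- The shifted scalar product with a sign vector. -/
def sumSigns : List (ℕ × ℕ) → ℕ → ℕ → ℕ
  | [], _, acc => acc
  | (u, w) :: r, M, acc =>
    sumSigns r (Nat.div M 2) (Nat.add acc (bif Nat.beq (Nat.land M 1) 1 then w else u))

/-- The number of admissible positions. -/
def cntPos : List (ℕ × ℕ) → ℕ → ℕ → ℕ → ℕ → ℕ
  | [], _, _, _, c => c
  | (u, w) :: r, M, S, T, c =>
    cntPos r (Nat.div M 2) S T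
      (bif Nat.beq (Nat.add S (bif Nat.beq (Nat.land M 1) 1 then w else u)) T then Nat.add c 1 else c)

/-- Shifted contributions of the entries `±2`. -/
def twoPairs (p : List ℤ) : List (ℕ × ℕ) := p.map fun a => ((32 + 2 * a).toNat, (32 - 2 * a).toNat)

/-- Shifted contributions of the entries `±1`. -/
def onePairs (p : List ℤ) : List (ℕ × ℕ) := p.map fun a => ((16 + a).toNat, (16 - a).toNat)

/-- Shifted corrections at one position. -/
def posPairs (p : List ℤ) : List (ℕ × ℕ) :=
  p.map fun a => ((64 - 4 * a).toNat, (64 + 4 * a).toNat)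

/-- The count of the octad part. -/
def cntOct (d : ℕ) (pr : List (ℕ × ℕ)) (cx : ℕ) : ℕ :=
  cntSigns d (sel (Golay.comb cx) pr) 0 0

/-- The count of the odd part. -/
def cntOdd (d : ℕ) (p1 p4 : List (ℕ × ℕ)) (cx : ℕ) : ℕ :=
  cntPos p4 (Golay.comb cx) (sumSigns p1 (Golay.comb cx) 0) d 0

theorem beq_land_one (M : ℕ) : Nat.beq (Nat.land M 1) 1 = (M % 2 == 1) := by
  show Nat.beq (M &&& 1) 1 = _
  rw [Nat.and_one_is_mod]
  rcases Nat.mod_two_eq_zero_or_one M with h | h <;> rw [h] <;> rfl

theorem sel_map {β : Type} (f : ℤ → β) : ∀ (l : List ℤ) (M : ℕ),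
    sel M (l.map f) = (restrict M l).map f := by
  intro l
  induction l with
  | nil => intro M; rfl
  | cons a l ih =>
    intro M
    rw [List.map_cons, sel, restrict, beq_land_one]
    show (bif M % 2 == 1 then f a :: sel (M / 2) (l.map f) else sel (M / 2) (l.map f)) = _
    rw [ih]
    cases M % 2 == 1 <;> rfl

theorem mem_restrict : ∀ (l : List ℤ) (M : ℕ) (a : ℤ), a ∈ restrict M l → a ∈ l := by
  intro l
  induction l with
  | nil => intro M a h; simp [restrict] at h
  | cons b l ih =>
    intro M a h
    rw [restrict] at h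
    cases hb : (M % 2 == 1) <;> simp only [hb, cond_true, cond_false] at h
    · exact List.mem_cons_of_mem _ (ih _ _ h)
    · rcases List.mem_cons.1 h with rfl | h
      · exact List.mem_cons_self
      · exact List.mem_cons_of_mem _ (ih _ _ h)

theorem cntSigns_eq (T : ℕ) : ∀ (p : List ℤ) (s' acc : ℕ) (s t : ℤ),
    (∀ a ∈ p, -8 ≤ a ∧ a ≤ 8) → (s' : ℤ) % 8 = s % 8 → (T : ℤ) = acc + t + 32 * p.length →
    cntSigns T (twoPairs p) s' acc = (signs p.length s [(t, p)]).length := by
  intro p
  induction p with
  | nil =>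
    intro s' acc s t _ hs hT
    simp only [List.length_nil, Nat.cast_zero, mul_zero, add_zero] at hT
    have h1 : Nat.beq (Nat.mod s' 8) 0 = (s % 8 == 0) := by
      show Nat.beq (s' % 8) 0 = _
      rw [Bool.eq_iff_iff, Nat.beq_eq, beq_iff_eq]; omega
    have h2 : Nat.beq acc T = (t == 0) := by
      rw [Bool.eq_iff_iff, Nat.beq_eq, beq_iff_eq]; omega
    simp only [twoPairs, List.map_nil, cntSigns, List.length_nil, signs, doneSt, List.all_cons,
      List.all_nil, Bool.and_true, h1, h2]
    cases t == 0 <;> cases s % 8 == 0 <;> rfl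
  | cons a p ih =>
    intro s' acc s t hb hs hT
    obtain ⟨h1, h2⟩ := hb a List.mem_cons_self
    have hb' := fun b hb' => hb b (List.mem_cons_of_mem _ hb')
    simp only [List.length_cons] at hT
    push_cast at hT
    simp only [List.length_cons, signs, stepSt, List.map_cons, List.map_nil, List.headD_cons,
      List.tail_cons, List.length_append, List.length_map]
    rw [show twoPairs (a :: p) = ((32 + 2 * a).toNat, (32 - 2 * a).toNat) :: twoPairs p from rfl,
      cntSigns]
    show cntSigns T (twoPairs p) (s' + 2) (acc + _) + cntSigns T (twoPairs p) (s' + 6) (acc + _) = _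
    rw [ih (s' + 2) (acc + (32 + 2 * a).toNat) (s + 2) (t - 2 * a) hb' (by omega) (by omega),
      ih (s' + 6) (acc + (32 - 2 * a).toNat) (s + -2) (t - -2 * a) hb' (by omega) (by omega)]

theorem sumSigns_eq : ∀ (p : List ℤ) (M acc : ℕ), (∀ a ∈ p, -8 ≤ a ∧ a ≤ 8) →
    (sumSigns (onePairs p) M acc : ℤ) = acc + 16 * p.length + dotZ (sgnL p.length M) p := by
  intro p
  induction p with
  | nil => intro M acc _; simp [sumSigns, onePairs, sgnL, dotZ]
  | cons a p ih =>
    intro M acc hb
    obtain ⟨h1, h2⟩ := hb a List.mem_cons_self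
    rw [show onePairs (a :: p) = ((16 + a).toNat, (16 - a).toNat) :: onePairs p from rfl, sumSigns,
      beq_land_one]
    show ((sumSigns (onePairs p) (M / 2) (acc + _) : ℕ) : ℤ) = _
    rw [ih _ _ fun b hb' => hb b (List.mem_cons_of_mem _ hb')]
    simp only [List.length_cons, sgnL, dotZ, List.headD_cons, List.tail_cons]
    cases M % 2 == 1 <;> simp only [cond_true, cond_false] <;> push_cast <;> omega

theorem cntPos_eq : ∀ (p : List ℤ) (M S T c : ℕ) (t : ℤ), (∀ a ∈ p, -8 ≤ a ∧ a ≤ 8) →
    (T : ℤ) = S + 64 + t →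
    cntPos (posPairs p) M S T c = c + (scanQ (sgnL p.length M) [(t, p)]).length := by
  intro p
  induction p with
  | nil => intro M S T c t _ _; simp [cntPos, posPairs, sgnL, scanQ]
  | cons a p ih =>
    intro M S T c t hb hT
    obtain ⟨h1, h2⟩ := hb a List.mem_cons_self
    rw [show posPairs (a :: p) = ((64 - 4 * a).toNat, (64 + 4 * a).toNat) :: posPairs p from rfl,
      cntPos, beq_land_one]
    show cntPos (posPairs p) (M / 2) S T _ = _
    rw [ih _ _ _ _ t (fun b hb' => hb b (List.mem_cons_of_mem _ hb')) hT]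
    simp only [List.length_cons, sgnL, scanQ, List.map_cons, List.map_nil, List.headD_cons,
      List.tail_cons, List.all_cons, List.all_nil, Bool.and_true, List.length_append,
      List.length_map]
    have hk : ∀ (b : Bool), Nat.beq (Nat.add S (bif b then (64 + 4 * a).toNat else (64 - 4 * a).toNat)) T
        = (t == -4 * (bif b then -1 else 1) * a) := by
      intro b
      show Nat.beq (S + _) T = _
      rw [Bool.eq_iff_iff, Nat.beq_eq, beq_iff_eq]
      cases b <;> simp only [cond_true, cond_false] <;> omega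
    rw [hk]
    cases t == -4 * (bif M % 2 == 1 then -1 else 1) * a <;> simp only [cond_true, cond_false]
    · simp
    · show c + 1 + _ = _
      simp; omega

theorem sum_congr_list {α : Type} {f g : α → ℕ} :
    ∀ l : List α, (∀ a ∈ l, f a = g a) → (l.map f).sum = (l.map g).sum := fun l h => by
  rw [List.map_congr_left h]

/-- The covering count for one fixed vector. -/
def fastCount (t : ℤ) (p : List ℤ) : ℕ :=
  Nat.add (fours 24 2 [(t, p)]).length (Nat.add
    ((((List.range 4096).filter fun cx => Nat.beq (Golay.pc24 (Golay.comb cx)) 8).map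
      (cntOct (t + 256).toNat (twoPairs p))).sum)
    (((List.range 4096).map (cntOdd (t + 448).toNat (onePairs p) (posPairs p))).sum))

theorem length_restrict_eq : ∀ (l : List ℤ) (M : ℕ), (restrict M l).length = Golay.pc l.length M := by
  intro l
  induction l with
  | nil => intro M; rfl
  | cons a l ih =>
    intro M
    rcases Nat.mod_two_eq_zero_or_one M with h | h <;> simp [restrict, h, Golay.pc, ih]; omega

theorem fastCount_eq {t : ℤ} {p : List ℤ} (hlen : p.length = 24)
    (hb : (p.all fun a => decide (-8 ≤ a ∧ a ≤ 8)) = true) (ht : -256 ≤ t) :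
    fastCount t p = (cands [(t, p)]).length := by
  simp only [List.all_eq_true, decide_eq_true_eq] at hb
  have h1 : ∀ cx ∈ (List.range 4096).filter (fun cx => Nat.beq (Golay.pc24 (Golay.comb cx)) 8),
      cntOct (t + 256).toNat (twoPairs p) cx =
        ((signs 8 0 ([(t, p)].map fun e => (e.1, restrict (Golay.comb cx) e.2))).map fun r =>
          CfsgLib.Leech.Orbits.vecOf (expand 24 (Golay.comb cx) r)).length := by
    intro cx hcx
    have h8 : (restrict (Golay.comb cx) p).length = 8 := by
      rw [length_restrict_eq, hlen, ← Golay.pc24_eq]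
      exact Nat.eq_of_beq_eq_true (List.mem_filter.1 hcx).2
    rw [cntOct, twoPairs, sel_map, ← twoPairs, List.length_map,
      cntSigns_eq _ _ 0 0 0 t (fun a ha => hb a (mem_restrict _ _ a ha)) rfl (by rw [h8]; omega), h8]
    rfl
  have h2 : ∀ cx ∈ List.range 4096, cntOdd (t + 448).toNat (onePairs p) (posPairs p) cx =
      ((scanQ (sgnL 24 (Golay.comb cx))
        ([(t, p)].map fun e => (e.1 - dotZ (sgnL 24 (Golay.comb cx)) e.2, e.2))).map
          (oddFun (Golay.comb cx))).length := by
    intro cx _
    have hs := sumSigns_eq p (Golay.comb cx) 0 hb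
    rw [hlen] at hs
    have hT : ((t + 448).toNat : ℤ) = (sumSigns (onePairs p) (Golay.comb cx) 0 : ℕ) + 64 +
        (t - dotZ (sgnL 24 (Golay.comb cx)) p) := by omega
    rw [cntOdd, cntPos_eq p _ _ _ 0 _ hb hT, hlen, List.length_map, Nat.zero_add]
    rfl
  unfold fastCount cands
  rw [sum_congr_list _ h1, sum_congr_list _ h2]
  simp only [List.length_append, List.length_flatMap, List.length_map]
  exact (Nat.add_assoc _ _ _).symm

end CfsgLib.Leech.Stab
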