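import Cfsg.Agent.Lib.Leech.Stab.Bounds
import Cfsg.Agent.Lib.Leech.Order

/-! Suborbits of the stabiliser of a vector of squared length 48 on 11178 and of McLaughlin on 2025. -/

set_option autoImplicit false

namespace CfsgLib.Leech.Stab

open Cfsg CfsgLib MulAction

/-- An orbit of a subgroup containing conjugates of the certified elements is the certified set. -/
theorem orbit_of_cert {c : Cert} (h : c.baseB = true) (ht : c.treeB = true)
    (hn : nodupB c.codes .leaf = true) (hc : c.Bound) (K : Subgroup Co0) (g : Co0) (T : Set leechLattice)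
    (hT : ∀ y, g • y ∈ c.set ↔ y ∈ T) (hinv : ∀ k ∈ K, ∀ y ∈ T, k • y ∈ T)
    (hfix : ∀ k, c.Fixes k → g⁻¹ * k * g ∈ K) :
    ∃ y, y ∈ T ∧ MulAction.orbit K y = T ∧ (MulAction.orbit K y).ncard = c.codes.length := by
  obtain ⟨hcard, htrans, -⟩ := cert_sound h ht hn hc
  have hne : c.set.Nonempty := by
    by_contra hh
    rw [Set.not_nonempty_iff_eq_empty.1 hh, Set.ncard_empty] at hcard
    simp [Cert.codes] at hcard
  obtain ⟨z, hz⟩ := hne
  have hy : g⁻¹ • z ∈ T := (hT _).1 (by rwa [smul_inv_smul])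
  have heq : MulAction.orbit K (g⁻¹ • z) = T := by
    ext w
    constructor
    · rintro ⟨⟨k, hk⟩, rfl⟩; exact hinv k hk _ hy
    · intro hw
      obtain ⟨k, hk, he⟩ := cert_transitive h ht hn hc hz ((hT w).2 hw)
      refine ⟨⟨_, hfix k hk⟩, ?_⟩
      show (g⁻¹ * k * g) • g⁻¹ • z = w
      rw [mul_smul, mul_smul, smul_inv_smul, he, inv_smul_smul]
  refine ⟨_, hy, heq, ?_⟩
  rw [heq, ← hcard]; exact ncard_eq_of_smul g hT

theorem conj_fix {g k : Co0} {u p : leechLattice} (hg : g • u = p) (hk : k • p = p) :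
    (g⁻¹ * k * g) • u = u := by
  rw [mul_smul, mul_smul, hg, hk, ← hg, inv_smul_smul]

/-- The minimal vectors of scalar product -16 with `u`. -/
def elevenSet (u : leechLattice) : Set leechLattice :=
  {x | sqNorm (x : GolayPt → ℤ) = 32 ∧ dotInt (u : GolayPt → ℤ) (x : GolayPt → ℤ) = -16}

/-- The part of `elevenSet` at a given scalar product with `x`. -/
def elevenPart (u x : leechLattice) (d : ℤ) : Set leechLattice :=
  {y | y ∈ elevenSet u ∧ dotInt (x : GolayPt → ℤ) (y : GolayPt → ℤ) = d}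

theorem eleven_rank_five {u x : leechLattice} (hu : sqNorm (u : GolayPt → ℤ) = 48)
    (hx : x ∈ elevenSet u) :
    ∃ y₁ ∈ elevenSet u, ∃ y₂ ∈ elevenSet u, ∃ y₃ ∈ elevenSet u, ∃ y₄ ∈ elevenSet u,
      (orbit ↥(stabilizer Co0 u ⊓ stabilizer Co0 x) y₁).ncard = 352 ∧
      (orbit ↥(stabilizer Co0 u ⊓ stabilizer Co0 x) y₂).ncard = 1100 ∧
      (orbit ↥(stabilizer Co0 u ⊓ stabilizer Co0 x) y₃).ncard = 4125 ∧
      (orbit ↥(stabilizer Co0 u ⊓ stabilizer Co0 x) y₄).ncard = 5600 ∧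
      elevenSet u = {x} ∪ orbit ↥(stabilizer Co0 u ⊓ stabilizer Co0 x) y₁ ∪
        orbit ↥(stabilizer Co0 u ⊓ stabilizer Co0 x) y₂ ∪
        orbit ↥(stabilizer Co0 u ⊓ stabilizer Co0 x) y₃ ∪
        orbit ↥(stabilizer Co0 u ⊓ stabilizer Co0 x) y₄ := by
  obtain ⟨g, hg, hgx⟩ := normal_eleven hu hx.1 ((dot_comm _ _).trans hx.2)
  set K := stabilizer Co0 u ⊓ stabilizer Co0 x with hK
  have hinv : ∀ d, ∀ k ∈ K, ∀ y ∈ elevenPart u x d, k • y ∈ elevenPart u x d := by
    intro d k hk y hy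
    obtain ⟨h1, h2⟩ := Subgroup.mem_inf.1 hk
    rw [mem_stabilizer_iff] at h1 h2
    refine ⟨⟨by rw [sqNorm_smul]; exact hy.1.1, ?_⟩, ?_⟩
    · conv_lhs => rw [← h1]
      rw [dotInt_smul]; exact hy.1.2
    · conv_lhs => rw [← h2]
      rw [dotInt_smul]; exact hy.2
  have key : ∀ (c : Cert) (d : ℤ), c.fix = [(477021337197006099550156565987704303, -16),
      (852206658587909773353650494292640268, d)] →
      (∀ y, g • y ∈ c.set ↔ y ∈ elevenPart u x d) ∧ (∀ k, c.Fixes k → g⁻¹ * k * g ∈ K) := by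
    intro c d hc
    refine ⟨fun y => ?_, fun k hk => ?_⟩
    · have e : ∀ z, z ∈ c.set ↔ sqNorm (z : GolayPt → ℤ) = 32 ∧
          dotInt (z : GolayPt → ℤ) (ptU : GolayPt → ℤ) = -16 ∧
          dotInt (z : GolayPt → ℤ) (ptM : GolayPt → ℤ) = d := fun z => by
        simp [Cert.set, hc, ptU, ptM]
      rw [e, sqNorm_smul, ← hg, ← hgx, dotInt_smul, dotInt_smul, dot_comm (y : GolayPt → ℤ) u,
        dot_comm (y : GolayPt → ℤ) x]
      exact ⟨fun h => ⟨⟨h.1, h.2.1⟩, h.2.2⟩, fun h => ⟨h.1.1, h.1.2, h.2⟩⟩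
    · exact Subgroup.mem_inf.2
        ⟨mem_stabilizer_iff.2 (conj_fix hg (hk (_, -16) (by simp [hc]))),
          mem_stabilizer_iff.2 (conj_fix hgx (hk (_, d) (by simp [hc])))⟩
  obtain ⟨a1, b1⟩ := key eleven352Cert (-8) rfl
  obtain ⟨a2, b2⟩ := key eleven1100Cert 16 rfl
  obtain ⟨a3, b3⟩ := key eleven4125Cert 0 rfl
  obtain ⟨a4, b4⟩ := key eleven5600Cert 8 rfl
  obtain ⟨y₁, m1, o1, n1⟩ := orbit_of_cert eleven352_base eleven352_tree eleven352_nodup
    eleven_parts.1 K g _ a1 (hinv _) b1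
  obtain ⟨y₂, m2, o2, n2⟩ := orbit_of_cert eleven1100_base eleven1100_tree eleven1100_nodup
    eleven_parts.2.1 K g _ a2 (hinv _) b2
  obtain ⟨y₃, m3, o3, n3⟩ := orbit_of_cert eleven4125_base eleven4125_tree eleven4125_nodup
    eleven_parts.2.2.1 K g _ a3 (hinv _) b3
  obtain ⟨y₄, m4, o4, n4⟩ := orbit_of_cert eleven5600_base eleven5600_tree eleven5600_nodup
    eleven_parts.2.2.2 K g _ a4 (hinv _) b4
  have k1 : eleven352Cert.codes.length = 352 := by decide +kernel
  have k2 : eleven1100Cert.codes.length = 1100 := by decide +kernel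
  have k3 : eleven4125Cert.codes.length = 4125 := by decide +kernel
  have k4 : eleven5600Cert.codes.length = 5600 := by decide +kernel
  rw [k1] at n1; rw [k2] at n2; rw [k3] at n3; rw [k4] at n4
  refine ⟨y₁, m1.1, y₂, m2.1, y₃, m3.1, y₄, m4.1, n1, n2, n3, n4, ?_⟩
  have hsub : {x} ∪ orbit K y₁ ∪ orbit K y₂ ∪ orbit K y₃ ∪ orbit K y₄ ⊆ elevenSet u := by
    rw [o1, o2, o3, o4]
    intro y hy
    simp only [Set.mem_union, Set.mem_singleton_iff] at hy
    rcases hy with (((rfl | h) | h) | h) | h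
    · exact hx
    all_goals exact h.1
  obtain ⟨hE, -⟩ := transitive_eleven hu
  have hfin : (elevenSet u).Finite :=
    Set.finite_of_ncard_ne_zero (by rw [elevenSet, hE]; norm_num)
  have hf : ∀ {y}, orbit K y ⊆ elevenSet u → (orbit K y).Finite := fun h => hfin.subset h
  have hd : ∀ d, d ≠ (32 : ℤ) → x ∉ elevenPart u x d := fun d hd h => by
    have := h.2; rw [dotInt_self, hx.1] at this; exact hd this.symm
  have hdd : ∀ d e, d ≠ e → Disjoint (elevenPart u x d) (elevenPart u x e) := fun d e hne =>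
    Set.disjoint_left.2 fun y hy hy' => hne (hy.2.symm.trans hy'.2)
  refine (Set.eq_of_subset_of_ncard_le hsub ?_ hfin).symm
  rw [show (elevenSet u).ncard = 11178 from hE, o1, o2, o3, o4]
  have f : ∀ d, (elevenPart u x d).Finite := fun d => hfin.subset fun y hy => hy.1
  rw [Set.ncard_union_eq ?_ (((Set.finite_singleton x).union (f _)).union (f _) |>.union (f _)) (f _),
    Set.ncard_union_eq ?_ (((Set.finite_singleton x).union (f _)).union (f _)) (f _),
    Set.ncard_union_eq ?_ ((Set.finite_singleton x).union (f _)) (f _),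
    Set.ncard_union_eq ?_ (Set.finite_singleton x) (f _), Set.ncard_singleton,
    ← o1, ← o2, ← o3, ← o4, n1, n2, n3, n4]
  · simp only [Set.disjoint_singleton_left]; exact hd _ (by norm_num)
  all_goals simp only [Set.disjoint_union_left, Set.disjoint_singleton_left]
  all_goals (repeat' constructor)
  all_goals first | exact hd _ (by norm_num) | exact hdd _ _ (by norm_num)

/-- The 2025 points of the McLaughlin action. -/
def set2025 (v w : leechLattice) : Set leechLattice :=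
  {x | sqNorm (x : GolayPt → ℤ) = 32 ∧ dotInt (v : GolayPt → ℤ) (x : GolayPt → ℤ) = 0 ∧
    dotInt (w : GolayPt → ℤ) (x : GolayPt → ℤ) = 16}

theorem mem2025 {x : leechLattice} : x ∈ mcL2025Cert.set ↔ sqNorm (x : GolayPt → ℤ) = 32 ∧
    dotInt (x : GolayPt → ℤ) (ptU : GolayPt → ℤ) = -16 ∧
    dotInt (x : GolayPt → ℤ) (ptV : GolayPt → ℤ) = 0 := by
  simp [Cert.set, mcL2025Cert, ptU, ptV]

theorem mcl_rank_four {v w : leechLattice} (hv : sqNorm (v : GolayPt → ℤ) = 32)
    (hw : sqNorm (w : GolayPt → ℤ) = 32) (hvw : dotInt (v : GolayPt → ℤ) (w : GolayPt → ℤ) = -8) :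
    (set2025 v w).ncard = 2025 ∧
    (∀ x ∈ set2025 v w, ∀ x' ∈ set2025 v w, ∃ g : Co0, g • v = v ∧ g • w = w ∧ g • x = x') ∧
    ∀ x ∈ set2025 v w, ∃ y₁ ∈ set2025 v w, ∃ y₂ ∈ set2025 v w, ∃ y₃ ∈ set2025 v w,
      (orbit ↥(stabilizer Co0 v ⊓ stabilizer Co0 w ⊓ stabilizer Co0 x) y₁).ncard = 330 ∧
      (orbit ↥(stabilizer Co0 v ⊓ stabilizer Co0 w ⊓ stabilizer Co0 x) y₂).ncard = 462 ∧
      (orbit ↥(stabilizer Co0 v ⊓ stabilizer Co0 w ⊓ stabilizer Co0 x) y₃).ncard = 1232 := by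
  obtain ⟨g, hgu, hgv⟩ := normal_pair (u := v + w) (v := v)
    (by rw [AddSubgroup.coe_add, sqNorm_add, hv, hw, hvw]; norm_num) hv
    (by rw [AddSubgroup.coe_add, dot_comm, dot_add_left, dotInt_self, hv,
      dot_comm (w : GolayPt → ℤ), hvw]; norm_num)
  have hgw : g • w = ptU - ptV := by
    rw [smul_add', hgv] at hgu; exact eq_sub_of_add_eq' hgu
  -- the negated set
  have hneg : ∀ (h : Co0), h • v = ptV → h • w = ptU - ptV →
      ∀ y, h • (-y) ∈ mcL2025Cert.set ↔ y ∈ set2025 v w := by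
    intro h h1 h2 y
    have hU : h • (v + w) = ptU := by rw [smul_add', h1, h2]; exact add_sub_cancel _ _
    rw [mem2025, smul_neg', AddSubgroup.coe_neg, sqNorm_neg, sqNorm_smul, dot_neg_left,
      dot_neg_left, ← hU, ← h1, dotInt_smul, dotInt_smul, AddSubgroup.coe_add,
      dot_comm (y : GolayPt → ℤ) ((v : GolayPt → ℤ) + _), dot_add_left,
      dot_comm (y : GolayPt → ℤ) (v : GolayPt → ℤ)]
    constructor
    · rintro ⟨a, b, c⟩; exact ⟨a, by omega, by omega⟩
    · rintro ⟨a, b, c⟩; exact ⟨a, by omega, by omega⟩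
  have hM : ptM ∈ mcL2025Cert.set := mem2025.2 ⟨pt_dots.2.2.1, pt_dots.2.2.2.2.2.2.1, by
    obtain ⟨-, h2, h3, -, -⟩ := pt_checks
    rw [ptM, ptV, dot_lat h3 h2]; decide +kernel⟩
  have norm_pt : ∀ x ∈ set2025 v w, ∃ h : Co0, h • v = ptV ∧ h • w = ptU - ptV ∧ h • (-x) = ptM := by
    intro x hx
    obtain ⟨k, hk, he⟩ := cert_transitive mcL2025_base mcL2025_tree mcL2025_nodup mcL2025_bound
      ((hneg g hgv hgw x).2 hx) hM
    have f1 : k • ptU = ptU := hk (_, -16) (by simp [mcL2025Cert])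
    have f2 : k • ptV = ptV := hk (_, 0) (by simp [mcL2025Cert])
    refine ⟨k * g, by rw [mul_smul, hgv, f2], ?_, by rw [mul_smul, he]⟩
    rw [mul_smul, hgw, sub_eq_add_neg, smul_add', smul_neg', f1, f2]
  refine ⟨?_, fun x hx x' hx' => ?_, fun x hx => ?_⟩
  · rw [← Set.ncard_image_of_injective (set2025 v w) neg_injective]
    refine (ncard_eq_of_smul g fun y => ?_).trans
      ((cert_sound mcL2025_base mcL2025_tree mcL2025_nodup mcL2025_bound).1.trans (by decide +kernel))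
    rw [Set.image_neg_eq_neg, Set.mem_neg]
    conv_lhs => rw [← neg_neg y]
    exact hneg g hgv hgw (-y)
  · obtain ⟨a, a1, a2, a3⟩ := norm_pt x hx
    obtain ⟨b, b1, b2, b3⟩ := norm_pt x' hx'
    refine ⟨b⁻¹ * a, by rw [mul_smul, a1, ← b1, inv_smul_smul],
      by rw [mul_smul, a2, ← b2, inv_smul_smul], neg_injective ?_⟩
    rw [← smul_neg', mul_smul, a3, ← b3, inv_smul_smul]
  · obtain ⟨a, a1, a2, a3⟩ := norm_pt x hx
    set K := stabilizer Co0 v ⊓ stabilizer Co0 w ⊓ stabilizer Co0 x with hK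
    have key : ∀ (c : Cert) (d : ℤ), c.fix = [(477021337197006099550156565987704303, -16),
        (519899659641680805127698729222554124, 0), (852206658587909773353650494292640268, d)] →
        c.baseB = true → c.treeB = true → nodupB c.codes .leaf = true → c.Bound →
        ∃ y ∈ set2025 v w, (orbit K y).ncard = c.codes.length := by
      intro c d hc hb ht hn hbd
      have e : ∀ z, z ∈ c.set ↔ z ∈ mcL2025Cert.set ∧
          dotInt (z : GolayPt → ℤ) (ptM : GolayPt → ℤ) = d := fun z => by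
        rw [mem2025]; simp [Cert.set, hc, ptU, ptV, ptM, and_assoc]
      obtain ⟨y, hy, ho, hcard⟩ := orbit_of_cert hb ht hn hbd K (a * negEl)
        {y | y ∈ set2025 v w ∧ dotInt (x : GolayPt → ℤ) (y : GolayPt → ℤ) = d}
        (fun y => by
          rw [mul_smul, negEl_smul, e, hneg a a1 a2, ← a3, dotInt_smul, AddSubgroup.coe_neg,
            AddSubgroup.coe_neg, dot_neg_left, dot_comm, dot_neg_left, neg_neg]
          rfl)
        (fun k hk y hy => by
          obtain ⟨h12, h3⟩ := Subgroup.mem_inf.1 hk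
          obtain ⟨h1, h2⟩ := Subgroup.mem_inf.1 h12
          rw [mem_stabilizer_iff] at h1 h2 h3
          refine ⟨⟨by rw [sqNorm_smul]; exact hy.1.1, ?_, ?_⟩, ?_⟩
          · conv_lhs => rw [← h1]
            rw [dotInt_smul]; exact hy.1.2.1
          · conv_lhs => rw [← h2]
            rw [dotInt_smul]; exact hy.1.2.2
          · conv_lhs => rw [← h3]
            rw [dotInt_smul]; exact hy.2)
        (fun k hk => by
          have f1 : k • ptU = ptU := hk (_, -16) (by simp [hc])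
          have f2 : k • ptV = ptV := hk (_, 0) (by simp [hc])
          have f3 : k • ptM = ptM := hk (_, d) (by simp [hc])
          have hcomm : (a * negEl)⁻¹ * k * (a * negEl) = a⁻¹ * k * a := by
            have hn1 : negEl⁻¹ * (a⁻¹ * k * a) * negEl = a⁻¹ * k * a := by
              rw [mul_assoc, negEl_comm, ← mul_assoc, inv_mul_cancel, one_mul]
            rw [mul_inv_rev]
            simpa [mul_assoc] using hn1
          rw [hcomm]
          refine Subgroup.mem_inf.2 ⟨Subgroup.mem_inf.2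
            ⟨mem_stabilizer_iff.2 (conj_fix a1 f2), mem_stabilizer_iff.2 (conj_fix a2 ?_)⟩,
            mem_stabilizer_iff.2 (neg_injective ?_)⟩
          · rw [sub_eq_add_neg, smul_add', smul_neg', f1, f2]
          · rw [← smul_neg']; exact conj_fix a3 f3)
      exact ⟨y, hy.1, hcard⟩
    obtain ⟨y₁, h1, c1⟩ := key mcL330Cert 0 rfl mcL330_base mcL330_tree mcL330_nodup mcl_parts.1
    obtain ⟨y₂, h2, c2⟩ := key mcL462Cert 16 rfl mcL462_base mcL462_tree mcL462_nodup mcl_parts.2.1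
    obtain ⟨y₃, h3, c3⟩ := key mcL1232Cert 8 rfl mcL1232_base mcL1232_tree mcL1232_nodup mcl_parts.2.2
    exact ⟨y₁, h1, y₂, h2, y₃, h3, c1.trans (by decide +kernel), c2.trans (by decide +kernel),
      c3.trans (by decide +kernel)⟩

end CfsgLib.Leech.Stab
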